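import Groth.Agent.IsoNatLib.AxesBC

/-!
# Canonical comparison of abelian automorphism groups, natural in the base
-/

set_option autoImplicit false
set_option backward.isDefEq.respectTransparency false
set_option backward.isDefEq.respectTransparency.types false
set_option linter.style.haveILetI false
set_option maxHeartbeats 1000000
universe u

noncomputable section

namespace Groth.Agent.GerbBG.AxesNat

open CategoryTheory CategoryTheory.Limits AlgebraicGeometry Groth.Agent.FibCatRep Groth.Agent.IsoNatLib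
  Groth.Agent.IsoNatLib.Axes Groth.Agent.GerbLib.Band

variable {S : Scheme.{u}} {𝒳 𝒴 : AlgSt.Cat S} {T T' : Over S}

/-- conjugation of automorphisms along a morphism -/
def conj {𝒮 : AlgSt.Cat S} (hg : FibCat.IsFibGrpd 𝒮.p) {a b : 𝒮.obj} (m : a ⟶ b) : Gerb.AutO b →* Gerb.AutO a where
  toFun α := (existsUnique_conj hg m α).exists.choose
  map_one' := (existsUnique_conj hg m 1).unique (existsUnique_conj hg m 1).exists.choose_spec (by simp [ah_one])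
  map_mul' α β := (existsUnique_conj hg m (α * β)).unique (existsUnique_conj hg m (α * β)).exists.choose_spec (by
    rw [ah_mul, ah_mul, Category.assoc, (existsUnique_conj hg m α).exists.choose_spec,
      reassoc_of% (existsUnique_conj hg m β).exists.choose_spec])

lemma conj_spec {𝒮 : AlgSt.Cat S} (hg : FibCat.IsFibGrpd 𝒮.p) {a b : 𝒮.obj} (m : a ⟶ b) (α : Gerb.AutO b) :
    ah (conj hg m α) ≫ m = m ≫ ah α :=
  (existsUnique_conj hg m α).exists.choose_spec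

lemma conj_eq {𝒮 : AlgSt.Cat S} (hg : FibCat.IsFibGrpd 𝒮.p) {a b : 𝒮.obj} (m : a ⟶ b) (α : Gerb.AutO b)
    (β : Gerb.AutO a) (h : ah β ≫ m = m ≫ ah α) : conj hg m α = β :=
  (existsUnique_conj hg m α).unique (conj_spec hg m α) h

lemma conj_bijective {𝒮 : AlgSt.Cat S} (hg : FibCat.IsFibGrpd 𝒮.p) {a b : 𝒮.obj} (m : a ⟶ b)
    [IsIso (𝒮.p.map m)] : Function.Bijective (conj hg m) := by
  haveI := isIso_of_map hg m
  refine ⟨fun α β e => autO_ext ((cancel_epi m).1 ?_), fun β => ?_⟩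
  · rw [← conj_spec hg m α, e, conj_spec hg m β]
  · obtain ⟨α, hα⟩ := exists_autO hg (inv m ≫ ah β ≫ m) (by
      rw [Functor.map_comp, Functor.map_comp, map_ah, Category.id_comp, ← Functor.map_comp, IsIso.inv_hom_id,
        CategoryTheory.Functor.map_id])
    exact ⟨α, conj_eq hg m α β (by rw [hα, IsIso.hom_inv_id_assoc])⟩

/-- the canonical relation between global automorphisms of related points -/
def R (h𝒳 : FibCat.IsFibGrpd 𝒳.p) (h𝒴 : FibCat.IsFibGrpd 𝒴.p) (φ : IsoNat.FIso 𝒳 𝒴)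
    (x : FibCat.overCat T ⥤ᵇ 𝒳) (y : FibCat.overCat T ⥤ᵇ 𝒴) (g : G₀ T x) (g' : G₀ T y) : Prop :=
  ∃ c d, Lab h𝒳 g c ∧ Rel φ c d ∧ Lab h𝒴 g' d

theorem Lab.bc (hg : FibCat.IsFibGrpd 𝒳.p) (j : T' ⟶ T) {x : FibCat.overCat T ⥤ᵇ 𝒳} {g : G₀ T x}
    {c : FibCat.overCat (dbl (V T 2)) ⥤ᵇ 𝒳} (h : Lab hg g c) :
    Lab hg (bG j x g) (BasedFunctor.comp (AlgSt.overMap (dmap (ub j 2) (V_le_ub 2))) c) := by
  obtain ⟨τ, γ, h0, h1, hr⟩ := h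
  obtain ⟨τ₀, hτ₀⟩ := exists_triv_bc (hV := V_le_ub 2) hg (ub_q (j := j) 2) τ
  refine ⟨τ₀, bV j x 2 γ, ?_, ?_, ?_⟩
  · rw [show lV 0 (bV j x 2 γ) = bV j x 1 (lV 0 γ) from rV_bV _ _ _, h0, bV_cV]
  · rw [show lV 1 (bV j x 2 γ) = bV j x 1 (lV 1 γ) from rV_bV _ _ _, h1, map_one]
  · obtain ⟨a, ha⟩ := hr
    refine ⟨fun b => bU j x 2 (a b), ?_⟩
    rw [hτ₀, iV_bU, iV_bU]
    show bV j x 2 _ * _ = _ * bV j x 2 _
    rw [← map_mul, ← map_mul, ha]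

theorem R.bc (h𝒳 : FibCat.IsFibGrpd 𝒳.p) (h𝒴 : FibCat.IsFibGrpd 𝒴.p) {φ : IsoNat.FIso 𝒳 𝒴} (j : T' ⟶ T)
    {x : FibCat.overCat T ⥤ᵇ 𝒳} {y : FibCat.overCat T ⥤ᵇ 𝒴} {g : G₀ T x} {g' : G₀ T y}
    (h : R h𝒳 h𝒴 φ x y g g') :
    R h𝒳 h𝒴 φ (BasedFunctor.comp (AlgSt.overMap j) x) (BasedFunctor.comp (AlgSt.overMap j) y)
      (bG j x g) (bG j y g') := by
  obtain ⟨c, d, hc, hcd, hd⟩ := h
  exact ⟨_, _, Lab.bc h𝒳 j hc, hcd.overMap h𝒴 _, Lab.bc h𝒴 j hd⟩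

section equiv

variable (hS : Stk.IsStack (Jf S) 𝒳) (hd : AlgSt.RepByAlgSpWith AlgSp.IsSeparatedMor (FibCat.diag (FibCat.toSelf 𝒳)))
  (h𝒴 : Stk.IsStack (Jf S) 𝒴) (h𝒴d : AlgSt.RepByAlgSpWith AlgSp.IsSeparatedMor (FibCat.diag (FibCat.toSelf 𝒴)))
  {φ : IsoNat.FIso 𝒳 𝒴} {x : FibCat.overCat T ⥤ᵇ 𝒳} {y : FibCat.overCat T ⥤ᵇ 𝒴} (hxy : Rel φ x y)
  (hcx : ∀ (o : Over T) (a b : Gerb.AutO (x.obj o)), a * b = b * a)
  (hcy : ∀ (o : Over T) (a b : Gerb.AutO (y.obj o)), a * b = b * a)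
include hS hd h𝒴 h𝒴d hxy hcx hcy

theorem R.unique_right {g : G₀ T x} {g₁ g₂ : G₀ T y} (h₁ : R hS.1 h𝒴.1 φ x y g g₁) (h₂ : R hS.1 h𝒴.1 φ x y g g₂) :
    g₁ = g₂ := by
  have cy : ∀ a b : G₀ T y, a * b = b * a := fun a b => Subtype.ext (funext fun t => hcy _ _ _)
  obtain ⟨c, d, hc, hcd, hd₁⟩ := h₁
  obtain ⟨c', d', hc', hcd', hd₂⟩ := h₂
  exact Axes.Lab.unique h𝒴 h𝒴d cy (hd₁.of_iso h𝒴 (Rel.nonempty_iso h𝒴.1 hcd hcd' (hc.iso hS hc'))) hd₂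

theorem R.unique_left {g₁ g₂ : G₀ T x} {g : G₀ T y} (h₁ : R hS.1 h𝒴.1 φ x y g₁ g) (h₂ : R hS.1 h𝒴.1 φ x y g₂ g) :
    g₁ = g₂ := by
  have cx : ∀ a b : G₀ T x, a * b = b * a := fun a b => Subtype.ext (funext fun t => hcx _ _ _)
  obtain ⟨c, d, hc, hcd, hd₁⟩ := h₁
  obtain ⟨c', d', hc', hcd', hd₂⟩ := h₂
  exact Axes.Lab.unique hS hd cx
    (hc.of_iso hS (Rel.nonempty_iso_symm hS.1 h𝒴.1 hcd hcd' (hd₁.iso h𝒴 hd₂))) hc'

/-- the canonical isomorphism of groups of global automorphisms -/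
theorem exists_canEquiv : ∃ E : G₀ T x ≃* G₀ T y, ∀ g, R hS.1 h𝒴.1 φ x y g (E g) := by
  classical
  have ex : ∀ g : G₀ T x, ∃ g', R hS.1 h𝒴.1 φ x y g g' := fun g => by
    obtain ⟨c, hcl⟩ := exists_lab hS g
    obtain ⟨d, hd'⟩ := Rel.exists_right h𝒴.1 φ c
    obtain ⟨g', hg'⟩ := exists_lab_of_ker h𝒴 h𝒴d hcy ((Ker.transport hS.1 h𝒴.1 hxy hd').1 (hcl.ker hS))
    exact ⟨g', c, d, hcl, hd', hg'⟩
  choose ψ hψ using ex
  have hmul : ∀ g h, ψ (g * h) = ψ g * ψ h := fun g h => by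
    obtain ⟨C, hC, C01, C12, C02⟩ := exists_triple hS hd hcx g h
    obtain ⟨C', hC', D01, D12, D02⟩ := exists_triple h𝒴 h𝒴d hcy (ψ g) (ψ h)
    obtain ⟨D, hD⟩ := Rel.exists_right h𝒴.1 φ C
    obtain ⟨cg, dg, hcg, hrg, hdg⟩ := hψ g
    obtain ⟨ch, dh, hch, hrh, hdh⟩ := hψ h
    obtain ⟨k₁⟩ := Rel.nonempty_iso h𝒴.1 (hD.overMap h𝒴.1 _) hrg (C01.iso hS hcg)
    obtain ⟨l₁⟩ := hdg.iso h𝒴 D01
    obtain ⟨k₂⟩ := Rel.nonempty_iso h𝒴.1 (hD.overMap h𝒴.1 _) hrh (C12.iso hS hch)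
    obtain ⟨l₂⟩ := hdh.iso h𝒴 D12
    obtain ⟨i⟩ := pairCrit_of_comm h𝒴 h𝒴d hcy D C' ((LT.transport hS.1 h𝒴.1 hxy hD).1 hC) hC'
      ⟨k₁ ≪≫ l₁⟩ ⟨k₂ ≪≫ l₂⟩
    exact R.unique_right hS hd h𝒴 h𝒴d hxy hcx hcy (hψ (g * h))
      ⟨_, _, C02, hD.overMap h𝒴.1 _, D02.of_iso h𝒴 ⟨((Stk.restr _ 𝒴).mapIso i).symm⟩⟩
  refine ⟨MulEquiv.ofBijective (MonoidHom.mk' ψ hmul) ⟨fun g₁ g₂ e => ?_, fun g' => ?_⟩, hψ⟩
  · have e' : ψ g₁ = ψ g₂ := e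
    exact R.unique_left hS hd h𝒴 h𝒴d hxy hcx hcy (hψ g₁) (e' ▸ hψ g₂)
  · obtain ⟨d, hdl⟩ := exists_lab h𝒴 g'
    obtain ⟨c, hc'⟩ := Rel.exists_left hS.1 φ d
    obtain ⟨g, hgl⟩ := exists_lab_of_ker hS hd hcx ((Ker.transport hS.1 h𝒴.1 hxy hc').2 (hdl.ker h𝒴))
    exact ⟨g, R.unique_right hS hd h𝒴 h𝒴d hxy hcx hcy (hψ g) ⟨c, d, hgl, hc', hdl⟩⟩

end equiv

section transfer

/-- base change of related automorphisms, transported along equalities of points -/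
theorem exists_transfer (h𝒳 : FibCat.IsFibGrpd 𝒳.p) (h𝒴 : FibCat.IsFibGrpd 𝒴.p) {φ : IsoNat.FIso 𝒳 𝒴}
    (f : T' ⟶ T) {x : FibCat.overCat T ⥤ᵇ 𝒳} {y : FibCat.overCat T ⥤ᵇ 𝒴} {x' : FibCat.overCat T' ⥤ᵇ 𝒳}
    {y' : FibCat.overCat T' ⥤ᵇ 𝒴} (hx : BasedFunctor.comp (AlgSt.overMap f) x = x')
    (hy : BasedFunctor.comp (AlgSt.overMap f) y = y') {g : G₀ T x} {g' : G₀ T y} (h : R h𝒳 h𝒴 φ x y g g') :
    ∃ (k : G₀ T' x') (k' : G₀ T' y'), R h𝒳 h𝒴 φ x' y' k k' ∧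
      (∀ (m : (AlgSt.overMap f).obj (Over.mk (𝟙 T')) ⟶ Over.mk (𝟙 T)),
        ah (k.1 (Tst.id₀ T')) ≫ eqToHom (congrArg (fun F : FibCat.overCat T' ⥤ᵇ 𝒳 => F.obj (Over.mk (𝟙 T'))) hx).symm ≫
            x.map m =
          eqToHom (congrArg (fun F : FibCat.overCat T' ⥤ᵇ 𝒳 => F.obj (Over.mk (𝟙 T'))) hx).symm ≫ x.map m ≫
            ah (g.1 (Tst.id₀ T))) ∧
      (∀ (m : (AlgSt.overMap f).obj (Over.mk (𝟙 T')) ⟶ Over.mk (𝟙 T)),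
        ah (k'.1 (Tst.id₀ T')) ≫ eqToHom (congrArg (fun F : FibCat.overCat T' ⥤ᵇ 𝒴 => F.obj (Over.mk (𝟙 T'))) hy).symm ≫
            y.map m =
          eqToHom (congrArg (fun F : FibCat.overCat T' ⥤ᵇ 𝒴 => F.obj (Over.mk (𝟙 T'))) hy).symm ≫ y.map m ≫
            ah (g'.1 (Tst.id₀ T))) := by
  subst hx hy
  have aux : ∀ {𝒵 : AlgSt.Cat S} {z : FibCat.overCat T ⥤ᵇ 𝒵} (a : G₀ T z)
      (m : (AlgSt.overMap f).obj (Over.mk (𝟙 T')) ⟶ Over.mk (𝟙 T)),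
      ah ((bG f z a).1 (Tst.id₀ T')) ≫ z.map m = z.map m ≫ ah (a.1 (Tst.id₀ T)) := fun a m =>
    a.2 ((Tst.id₀ T').down f _ _) (Tst.id₀ T) m (by
      show m.left ≫ 𝟙 T = 𝟙 T' ≫ f
      have := Over.w m
      exact this.trans rfl)
  refine ⟨bG f x g, bG f y g', R.bc h𝒳 h𝒴 f h, fun m => ?_, fun m => ?_⟩
  · simp only [eqToHom_refl, Category.id_comp]
    exact aux g m
  · simp only [eqToHom_refl, Category.id_comp]
    exact aux g' m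

/-- composition of restriction functors -/
theorem overMap_comp {U V W : Over S} (a : U ⟶ V) (b : V ⟶ W) :
    BasedFunctor.comp (AlgSt.overMap a) (AlgSt.overMap b) = AlgSt.overMap (a ≫ b) := by
  have : (Over.map a ⋙ Over.map b) = Over.map (a ≫ b) :=
    CategoryTheory.Functor.ext (fun o => congrArg Over.mk (Category.assoc o.hom a b))
      (fun o o' m => Over.OverMorphism.ext (by simp))
  show (⟨Over.map a ⋙ Over.map b, _⟩ : FibCat.overCat U ⥤ᵇ FibCat.overCat W) = _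
  congr 1

end transfer

end Groth.Agent.GerbBG.AxesNat

end
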