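import Groth.Agent.GerbLib.Glue
import Groth.Agent.AlgStLib.QuotStack
import Groth.Agent.AlgStLib.QuotRep
import Groth.Prelude.Def_StGerb2

/-!
# Twisting a point by a torsor under its automorphism group scheme

For a point `x` of a stack over the base scheme with automorphism group scheme `G`, every `G`-torsor `P ⟶ T`
gives an object `ζ` over `T` with a morphism `τ : x|_P ⟶ ζ` invariant up to the action.
-/

set_option autoImplicit false
set_option backward.isDefEq.respectTransparency false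
set_option backward.isDefEq.respectTransparency.types false
set_option linter.style.haveILetI false
set_option linter.unusedTactic false
set_option linter.unreachableTactic false
set_option maxHeartbeats 1000000
universe u

noncomputable section

namespace Groth.Agent.GerbBG

open CategoryTheory CategoryTheory.Limits MonoidalCategory CartesianMonoidalCategory MonObj GrpObj AlgebraicGeometry
open Opposite Groth.Agent.FibCatRep Groth.Agent.GerbLib Groth.Agent.GerbLib.Band Groth.Agent.Torsor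

variable {S : Scheme.{u}}

/-- the base as an object over itself -/
abbrev T₀ (S : Scheme.{u}) : Over S := Over.mk (𝟙 S)

/-- the structure map to the base -/
abbrev toT (W : Over S) : W ⟶ T₀ S := Over.homMk W.hom (Category.comp_id _)

/-- an object as a point of the base -/
abbrev pt (W : Over S) : Over (T₀ S) := Over.mk (toT W)

/-- a morphism as a morphism of points of the base -/
abbrev ptMap {W' W : Over S} (f : W' ⟶ W) : pt W' ⟶ pt W :=
  Over.homMk f (Over.OverMorphism.ext (show f.left ≫ W.hom = W'.hom from Over.w f))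

variable {𝒳 : AlgSt.Cat S} (x : FibCat.overCat (T₀ S) ⥤ᵇ 𝒳)

/-- the value of the point -/
abbrev xo (W : Over S) : 𝒳.obj := x.obj (pt W)

lemma xw (W : Over S) : 𝒳.p.obj (xo x W) = W := x.w_obj (pt W)

/-- restriction of the point -/
abbrev xm {W' W : Over S} (f : W' ⟶ W) : xo x W' ⟶ xo x W := x.map (ptMap f)

lemma map_xm {W' W : Over S} (f : W' ⟶ W) :
    𝒳.p.map (xm x f) = eqToHom (xw x W') ≫ f ≫ eqToHom (xw x W).symm :=
  map_map x (ptMap f)

lemma xm_id (W : Over S) : xm x (𝟙 W) = 𝟙 (xo x W) := by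
  show x.map (ptMap (𝟙 W)) = _
  rw [show ptMap (𝟙 W) = 𝟙 (pt W) from Over.OverMorphism.ext rfl]
  exact x.toFunctor.map_id _

lemma xm_comp {W'' W' W : Over S} (f : W'' ⟶ W') (g : W' ⟶ W) : xm x (f ≫ g) = xm x f ≫ xm x g := by
  show x.map (ptMap (f ≫ g)) = _
  rw [show ptMap (f ≫ g) = ptMap f ≫ ptMap g from Over.OverMorphism.ext rfl]
  exact x.toFunctor.map_comp _ _

variable {x} {G : Over S} [GrpObj G] (r : Gerb.AutRep x (Gerb.ptsGrp (T₀ S) G))

/-- the automorphism attached to a point of the group -/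
def au {W : Over S} (g : W ⟶ G) : Gerb.AutO (xo x W) := r.iso (pt W) g

/-- its underlying morphism -/
abbrev a {W : Over S} (g : W ⟶ G) : xo x W ⟶ xo x W := ah (au r g)

lemma map_a {W : Over S} (g : W ⟶ G) : 𝒳.p.map (a r g) = 𝟙 _ := map_ah _

lemma au_mul {W : Over S} (g h : W ⟶ G) : au r (g * h) = au r g * au r h :=
  map_mul (r.iso (pt W)) g h

lemma au_one (W : Over S) : au r (1 : W ⟶ G) = 1 := map_one (r.iso (pt W))

lemma a_mul {W : Over S} (g h : W ⟶ G) : a r (g * h) = a r h ≫ a r g := by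
  rw [a, au_mul]; rfl

lemma a_comp {W : Over S} (g h : W ⟶ G) {z : 𝒳.obj} (v : xo x W ⟶ z) :
    a r g ≫ a r h ≫ v = a r (h * g) ≫ v := by
  rw [← Category.assoc, ← a_mul]

lemma a_one (W : Over S) : a r (1 : W ⟶ G) = 𝟙 (xo x W) := by
  rw [a, au_one]; rfl

lemma a_nat {W' W : Over S} (f : W' ⟶ W) (g : W ⟶ G) : a r (f ≫ g) ≫ xm x f = xm x f ≫ a r g :=
  r.natural (ptMap f) g

lemma a_nat_comp {W' W : Over S} (f : W' ⟶ W) (g : W ⟶ G) {z : 𝒳.obj} (v : xo x W ⟶ z) :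
    a r (f ≫ g) ≫ xm x f ≫ v = xm x f ≫ a r g ≫ v := by
  rw [← Category.assoc, a_nat, Category.assoc]

lemma a_injective {W : Over S} : Function.Injective (a r : (W ⟶ G) → _) := fun _ _ e =>
  (r.iso (pt W)).injective (autO_ext e)

lemma exists_a {W : Over S} (φ : xo x W ⟶ xo x W) (h𝒳 : FibCat.IsFibGrpd 𝒳.p)
    (h : 𝒳.p.map φ = 𝟙 _) : ∃ g : W ⟶ G, a r g = φ := by
  obtain ⟨α, hα⟩ := exists_autO h𝒳 φ h
  exact ⟨(r.iso (pt W)).symm α, by rw [a, au, ← hα]; exact congrArg ah ((r.iso (pt W)).apply_symm_apply α)⟩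

lemma map_a_xm {W' W : Over S} (g : W' ⟶ G) (f : W' ⟶ W) :
    𝒳.p.map (a r g ≫ xm x f) = eqToHom (xw x W') ≫ f ≫ eqToHom (xw x W).symm := by
  rw [Functor.map_comp, map_a, Category.id_comp, map_xm]

local notation "BGG" => AlgSt.QuotObj Scheme.fppfPrecoverage G (AlgSt.trivAction G)

/-! ### torsors on points -/

lemma smul_π (A : BGG) {W : Over S} (g : W ⟶ G) (p : W ⟶ A.P) : smul A.act g p ≫ A.π = p ≫ A.π := by
  rw [smul, Category.assoc, A.cart.w, lift_snd_assoc]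

lemma existsUnique_diff (A : BGG) {W : Over S} (p q : W ⟶ A.P) (h : p ≫ A.π = q ≫ A.π) :
    ∃! g : W ⟶ G, smul A.act g p = q := by
  let l := A.cart.lift q p h.symm
  have h₁ : l ≫ A.act.act = q := A.cart.lift_fst _ _ _
  have h₂ : l ≫ snd G A.P = p := A.cart.lift_snd _ _ _
  have hl : lift (l ≫ fst G A.P) p = l := by
    apply CartesianMonoidalCategory.hom_ext <;> simp [h₂]
  refine ⟨l ≫ fst G A.P, ?_, fun g hg => ?_⟩
  · show lift _ p ≫ A.act.act = q
    rw [hl, h₁]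
  · have : lift g p = l := A.cart.hom_ext (hg.trans h₁.symm) (by rw [lift_snd, h₂])
    rw [← this, lift_fst]

/-- members of the sieve: morphisms along which the torsor has a section -/
def secSieve (A : BGG) : Sieve A.base where
  arrows V f := ∃ p : V ⟶ A.P, p ≫ A.π = f
  downward_closed := by
    rintro V W f ⟨p, hp⟩ g
    exact ⟨g ≫ p, by rw [Category.assoc, hp]⟩

lemma secSieve_mem (A : BGG) : secSieve A ∈ QuotSh.J Scheme.fppfPrecoverage S A.base := by
  obtain ⟨R₀, hR₀, hs⟩ := A.loc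
  refine (GrothendieckTopology.mem_over_iff _ _).2 ?_
  refine GrothendieckTopology.superset_covering _ ?_ (Precoverage.generate_mem_toGrothendieck hR₀)
  rw [Sieve.generate_le_iff]
  intro Z f hf
  obtain ⟨s, hs'⟩ := hs f hf
  have hs'' : s ≫ A.π.left = f := hs'
  refine (Sieve.overEquiv_iff (Y := A.base) (secSieve A) f).2 ⟨Over.homMk s ?_, Over.OverMorphism.ext hs''⟩
  show s ≫ A.P.hom = f ≫ A.base.hom
  rw [← hs'', Category.assoc, Over.w A.π]

/-! ### descent of the point along a torsor -/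

/-- invariance of a morphism out of the point at a torsor -/
def Inv (A : BGG) {z : 𝒳.obj} (ν : xo x A.P ⟶ z) : Prop :=
  ∀ ⦃W : Over S⦄ (g : W ⟶ G) (q : W ⟶ A.P), xm x (smul A.act g q) ≫ ν = a r g⁻¹ ≫ xm x q ≫ ν

/-- the twist of the point by a torsor -/
structure Desc (A : BGG) where
  /-- the twisted object -/
  ζ : 𝒳.obj
  /-- the universal morphism -/
  τ : xo x A.P ⟶ ζ
  hζ : 𝒳.p.obj ζ = A.base
  hτ : 𝒳.p.map τ = eqToHom (xw x A.P) ≫ A.π ≫ eqToHom hζ.symm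
  inv : Inv r A τ

variable (h𝒳 : Stk.IsStack (QuotSh.J Scheme.fppfPrecoverage S) 𝒳)

include h𝒳 in
theorem exists_desc (A : BGG) : Nonempty (Desc r A) := by
  let R := secSieve A
  have hR : R ∈ QuotSh.J Scheme.fppfPrecoverage S A.base := secSieve_mem A
  choose p hp using fun w : (Stk.sieveCat R).obj => (w.property : R w.obj.hom)
  choose g hg hgu using fun (w w' : (Stk.sieveCat R).obj) (n : w ⟶ w') =>
    existsUnique_diff A (p w) (n.hom.left ≫ p w') (by rw [Category.assoc, hp, hp, Over.w n.hom])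
  let m : ∀ {w w' : (Stk.sieveCat R).obj}, (w ⟶ w') → (xo x w.obj.left ⟶ xo x w'.obj.left) :=
    fun {w w'} n => a r (g w w' n) ≫ xm x n.hom.left
  let H : Stk.sieveCat R ⥤ᵇ 𝒳 :=
    { toFunctor :=
        { obj := fun w => xo x w.obj.left
          map := fun n => m n
          map_id := fun w => by
            have h1 : (1 : w.obj.left ⟶ G) = g w w (𝟙 w) := hgu w w (𝟙 w) 1 (by
              beta_reduce
              rw [Torsor.one_smul]
              exact (Category.id_comp _).symm)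
            show a r (g w w (𝟙 w)) ≫ xm x (𝟙 w.obj.left) = 𝟙 _
            rw [← h1, a_one, xm_id, Category.id_comp]
          map_comp := fun {w w' w''} n n' => by
            have h1 : (n.hom.left ≫ g w' w'' n') * g w w' n = g w w'' (n ≫ n') := hgu w w'' (n ≫ n') _ (by
              beta_reduce
              rw [Torsor.mul_smul, hg, ← comp_smul, hg]
              exact (Category.assoc _ _ _).symm)
            show a r (g w w'' (n ≫ n')) ≫ xm x (n.hom.left ≫ n'.hom.left) =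
              (a r (g w w' n) ≫ xm x n.hom.left) ≫ a r (g w' w'' n') ≫ xm x n'.hom.left
            rw [← h1, a_mul, xm_comp, Category.assoc, Category.assoc]
            simp only [← Category.assoc (xm x n.hom.left), ← a_nat]
            simp only [Category.assoc] }
      w := CategoryTheory.Functor.ext (fun w => xw x w.obj.left) (fun w w' n => by
        show 𝒳.p.map (a r _ ≫ xm x n.hom.left) = _
        exact map_a_xm r _ n.hom.left) }
  haveI : (Stk.resSieve R 𝒳).IsEquivalence := h𝒳.2 R hR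
  let Q := (Stk.resSieve R 𝒳).objPreimage H
  let gi : (Stk.resSieve R 𝒳).obj Q ≅ H := (Stk.resSieve R 𝒳).objObjPreimageIso H
  let top : Over A.base := Over.mk (𝟙 _)
  let ζ := Q.obj top
  have hζ : 𝒳.p.obj ζ = A.base := Q.w_obj top
  let t : ∀ w : Over A.base, Q.obj w ⟶ ζ := fun w =>
    Q.map (Over.homMk w.hom (Category.comp_id _) : w ⟶ top)
  have nat : ∀ {w w' : (Stk.sieveCat R).obj} (n : w ⟶ w'), Q.map n.hom ≫ t w'.obj = t w.obj :=
    fun {w w'} n => by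
    show Q.map n.hom ≫ Q.map _ = Q.map _
    rw [← Functor.map_comp]
    congr 1
    exact Over.OverMorphism.ext (Over.w n.hom)
  let k : ∀ w : (Stk.sieveCat R).obj, xo x w.obj.left ⟶ ζ := fun w => gi.inv.toNatTrans.app w ≫ t w.obj
  have hk : ∀ w, 𝒳.p.map (k w) = eqToHom (xw x w.obj.left) ≫ w.obj.hom ≫ eqToHom hζ.symm := fun w => by
    show 𝒳.p.map (_ ≫ Q.map _) = _
    rw [Functor.map_comp, map_app, map_map]
    simp
    rfl
  have knat : ∀ {w w' : (Stk.sieveCat R).obj} (n : w ⟶ w'), m n ≫ k w' = k w := fun {w w'} n => by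
    show H.map n ≫ gi.inv.toNatTrans.app w' ≫ t w'.obj = _
    rw [← Category.assoc, gi.inv.toNatTrans.naturality n, Category.assoc]
    congr 1
    exact nat n
  let wOf : ∀ {W : Over S}, (W ⟶ A.P) → (Stk.sieveCat R).obj := fun q => ⟨Over.mk (q ≫ A.π), q, rfl⟩
  let pw : ∀ {W : Over S}, (W ⟶ A.P) → (W ⟶ A.P) := fun q => p (wOf q)
  let kw : ∀ {W : Over S}, (W ⟶ A.P) → (xo x W ⟶ ζ) := fun q => k (wOf q)
  have hpw : ∀ {W : Over S} (q : W ⟶ A.P), pw q ≫ A.π = q ≫ A.π := fun q => hp (wOf q)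
  have hkw : ∀ {W : Over S} (q : W ⟶ A.P),
      𝒳.p.map (kw q) = eqToHom (xw x W) ≫ (q ≫ A.π) ≫ eqToHom hζ.symm := fun q => hk (wOf q)
  have key : ∀ {W' : Over S} (q' : W' ⟶ A.P) (w : (Stk.sieveCat R).obj) (f : W' ⟶ w.obj.left),
      f ≫ w.obj.hom = q' ≫ A.π →
        ∃ gg : W' ⟶ G, smul A.act gg (pw q') = f ≫ p w ∧ a r gg ≫ xm x f ≫ k w = kw q' := by
    intro W' q' w f hf
    let n : wOf q' ⟶ w := ⟨Over.homMk f hf⟩
    exact ⟨g _ _ n, hg _ _ n, (Category.assoc _ _ _).symm.trans (knat n)⟩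
  choose c hc hcu using fun (W : Over S) (q : W ⟶ A.P) => existsUnique_diff A (pw q) q (hpw q)
  let K : ∀ {W : Over S}, (W ⟶ A.P) → (xo x W ⟶ ζ) := fun {W} q => a r (c W q)⁻¹ ≫ kw q
  have Knat : ∀ {W' W : Over S} (f : W' ⟶ W) (q : W ⟶ A.P), K (f ≫ q) = xm x f ≫ K q := by
    intro W' W f q
    obtain ⟨gg, hgg, hk'⟩ := key (f ≫ q) (wOf q) f (Category.assoc _ _ _).symm
    have hgg' : smul A.act gg (pw (f ≫ q)) = f ≫ pw q := hgg
    have hk'' : a r gg ≫ xm x f ≫ kw q = kw (f ≫ q) := hk'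
    have e : (f ≫ c W q) * gg = c W' (f ≫ q) := hcu W' (f ≫ q) _ (by
      beta_reduce
      rw [Torsor.mul_smul, hgg', ← comp_smul, hc])
    show a r (c W' (f ≫ q))⁻¹ ≫ kw (f ≫ q) = xm x f ≫ a r (c W q)⁻¹ ≫ kw q
    rw [← hk'', ← e]
    refine (a_comp r _ _ _).trans ?_
    rw [_root_.mul_inv_rev, mul_inv_cancel_left, ← GrpObj.comp_inv]
    exact a_nat_comp r _ _ _
  have Ksmul : ∀ {W : Over S} (gg : W ⟶ G) (q : W ⟶ A.P), K (smul A.act gg q) = a r gg⁻¹ ≫ K q := by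
    intro W gg q
    obtain ⟨d, hd, hk'⟩ := key (smul A.act gg q) (wOf q) (𝟙 W)
      ((Category.id_comp _).trans (smul_π A gg q).symm)
    have hd' : smul A.act d (pw (smul A.act gg q)) = 𝟙 W ≫ pw q := hd
    have hk'' : a r d ≫ xm x (𝟙 W) ≫ kw q = kw (smul A.act gg q) := hk'
    have e : gg * c W q * d = c W (smul A.act gg q) := hcu W _ _ (by
      beta_reduce
      rw [Torsor.mul_smul, hd', Category.id_comp, Torsor.mul_smul, hc])
    show a r (c W (smul A.act gg q))⁻¹ ≫ kw _ = a r gg⁻¹ ≫ a r (c W q)⁻¹ ≫ kw q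
    rw [← hk'', xm_id, Category.id_comp, ← e]
    refine (a_comp r _ _ _).trans (Eq.trans ?_ (a_comp r _ _ _).symm)
    rw [_root_.mul_inv_rev, mul_inv_cancel_left, _root_.mul_inv_rev]
  have hKm : ∀ {W : Over S} (q : W ⟶ A.P), xm x q ≫ K (𝟙 A.P) = K q := fun q => by
    rw [← Knat, Category.comp_id]
  refine ⟨⟨ζ, K (𝟙 A.P), hζ, ?_, fun W gg q => ?_⟩⟩
  · show 𝒳.p.map (a r (c A.P (𝟙 A.P))⁻¹ ≫ kw (𝟙 A.P)) = _
    rw [Functor.map_comp, map_a, hkw, Category.id_comp (A.π)]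
    exact Category.id_comp _
  · rw [hKm, hKm, Ksmul]

/-- the chosen twist -/
def desc (A : BGG) : Desc r A := (exists_desc r h𝒳 A).some

variable {r}
variable {A : AlgSt.QuotObj Scheme.fppfPrecoverage G (AlgSt.trivAction G)}

include h𝒳 in
lemma exists_normal {y : 𝒳.obj} {W : Over S} (χ : y ⟶ xo x W) :
    ∃ (h : 𝒳.p.obj y ⟶ W) (χ₀ : y ⟶ xo x (𝒳.p.obj y)),
      𝒳.p.map χ₀ = eqToHom (xw x (𝒳.p.obj y)).symm ∧ χ₀ ≫ xm x h = χ := by
  let h := 𝒳.p.map χ ≫ eqToHom (xw x W)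
  obtain ⟨χ₀, h', -⟩ := existsUnique_cart h𝒳.1 (xm x h) χ (eqToHom (xw x (𝒳.p.obj y)).symm)
    (by rw [map_xm]; simp [h])
  exact ⟨h, χ₀, h'⟩

include h𝒳 in
/-- values on the twist do not depend on the factorisation -/
lemma indep (D : Desc r A) {z : 𝒳.obj} {ν : xo x A.P ⟶ z} (hν : Inv r A ν) {y : 𝒳.obj} {W W' : Over S}
    (χ : y ⟶ xo x W) (q : W ⟶ A.P) (χ' : y ⟶ xo x W') (q' : W' ⟶ A.P)
    (h : χ ≫ xm x q ≫ D.τ = χ' ≫ xm x q' ≫ D.τ) : χ ≫ xm x q ≫ ν = χ' ≫ xm x q' ≫ ν := by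
  obtain ⟨f, χ₀, hχ₀, rfl⟩ := exists_normal h𝒳 χ
  obtain ⟨f', χ₀', hχ₀', rfl⟩ := exists_normal h𝒳 χ'
  simp only [Category.assoc, ← xm_comp, ← Category.assoc (xm x f), ← Category.assoc (xm x f')] at h ⊢
  have hb := congrArg 𝒳.p.map h
  simp only [Functor.map_comp, hχ₀, hχ₀', map_xm, D.hτ, Category.assoc, eqToHom_trans_assoc,
    eqToHom_refl, Category.id_comp] at hb
  have hb' : (f ≫ q) ≫ A.π = (f' ≫ q') ≫ A.π := by
    rw [← cancel_mono (eqToHom D.hζ.symm)]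
    simpa using hb
  obtain ⟨g, hg, -⟩ := existsUnique_diff A (f ≫ q) (f' ≫ q') hb'
  rw [← hg, D.inv g (f ≫ q)] at h
  rw [← hg, hν g (f ≫ q)]
  have hc : χ₀ = χ₀' ≫ a r g⁻¹ := by
    refine cancel h𝒳.1 (xm x (f ≫ q) ≫ D.τ) ?_ ?_
    · rw [Functor.map_comp, map_a, Category.comp_id, hχ₀, hχ₀']
    · rw [Category.assoc]
      exact h
  rw [hc, Category.assoc]

include h𝒳 in
/-- the universal property of the twist -/
theorem existsUnique_hom (D : Desc r A) {z : 𝒳.obj} (f : A.base ⟶ 𝒳.p.obj z) (ν : xo x A.P ⟶ z)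
    (hνb : 𝒳.p.map ν = eqToHom (xw x A.P) ≫ A.π ≫ f) (hν : Inv r A ν) :
    ∃! M : D.ζ ⟶ z, 𝒳.p.map M = eqToHom D.hζ ≫ f ∧ D.τ ≫ M = ν := by
  have hg𝒳 := h𝒳.1
  obtain ⟨z₁, ψ, hz, hψ⟩ := exists_lift hg𝒳 (x := z) f
  obtain ⟨ν₁, ⟨hν₁b, hν₁⟩, -⟩ := existsUnique_cart hg𝒳 ψ ν (eqToHom (xw x A.P) ≫ A.π ≫ eqToHom hz.symm)
    (by rw [hψ, hνb]; simp)
  have hinv : Inv r A ν₁ := fun W g q => by
    refine cancel hg𝒳 ψ ?_ ?_
    · simp only [Functor.map_comp, map_a, map_xm, hν₁b, Category.id_comp]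
      simp [reassoc_of% (smul_π A g q)]
    · simp only [Category.assoc, hν₁]
      exact hν g q
  let e : 𝒳.p.obj D.ζ = 𝒳.p.obj z₁ := D.hζ.trans hz.symm
  let R' : Sieve (𝒳.p.obj D.ζ) := (secSieve A).pullback (eqToHom D.hζ)
  have hR' : R' ∈ QuotSh.J Scheme.fppfPrecoverage S _ :=
    GrothendieckTopology.pullback_stable _ _ (secSieve_mem A)
  choose q hq using fun (y : 𝒳.obj) (φ : y ⟶ D.ζ) (h : R' (𝒳.p.map φ)) =>
    (h : ∃ p : 𝒳.p.obj y ⟶ A.P, p ≫ A.π = 𝒳.p.map φ ≫ eqToHom D.hζ)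
  choose χ hχb hχ using fun (y : 𝒳.obj) (φ : y ⟶ D.ζ) (h : R' (𝒳.p.map φ)) =>
    (existsUnique_cart hg𝒳 (xm x (q y φ h) ≫ D.τ) φ (eqToHom (xw x (𝒳.p.obj y)).symm) (by
      rw [Functor.map_comp, map_xm, D.hτ]
      simp [reassoc_of% (hq y φ h)])).exists
  obtain ⟨M, ⟨hMb, hM⟩, hMu⟩ := existsUnique_glueHom h𝒳 e hR' (fun y φ h => χ y φ h ≫ xm x (q y φ h) ≫ ν₁)
    (fun y φ h => by
      rw [Functor.map_comp, Functor.map_comp, hχb, map_xm, hν₁b]
      simp [reassoc_of% (hq y φ h)])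
    (fun y' y ψ' φ h h' => by
      rw [← Category.assoc ψ']
      exact indep h𝒳 D hinv _ _ _ _ (by rw [hχ, Category.assoc, hχ]))
  have hτM : D.τ ≫ M = ν₁ := by
    have hτR : R' (𝒳.p.map D.τ) := ⟨eqToHom (xw x A.P), by rw [D.hτ]; simp⟩
    rw [hM _ D.τ hτR]
    have := indep h𝒳 D hinv (χ _ D.τ hτR) (q _ D.τ hτR) (𝟙 _) (𝟙 A.P)
      (by rw [hχ, xm_id, Category.id_comp, Category.id_comp])
    rwa [xm_id, Category.id_comp, Category.id_comp] at this
  refine ⟨M ≫ ψ, ⟨by rw [Functor.map_comp, hMb, hψ]; simp [e], by rw [← Category.assoc, hτM, hν₁]⟩, ?_⟩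
  rintro N ⟨hNb, hN⟩
  obtain ⟨N₁, ⟨hN₁b, rfl⟩, -⟩ := existsUnique_cart hg𝒳 ψ N (eqToHom e) (by rw [hψ, hNb]; simp [e])
  congr 1
  refine hMu N₁ ⟨hN₁b, fun y φ h => ?_⟩
  have hτN : D.τ ≫ N₁ = ν₁ := by
    refine cancel hg𝒳 ψ ?_ (by rw [Category.assoc, hN, hν₁])
    rw [Functor.map_comp, D.hτ, hN₁b, hν₁b]
    simp [e]
  conv_lhs => rw [← hχ y φ h]
  rw [Category.assoc, Category.assoc, hτN]

end Groth.Agent.GerbBG
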