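import Groth.Agent.GerbBG.Main
import Groth.Agent.GerbBG.AxesNat
import Groth.Agent.AlgStLib.Calc

/-!
# The classifying stack of a commutative group is determined by its isomorphism classes
-/

set_option autoImplicit false
set_option backward.isDefEq.respectTransparency false
set_option backward.isDefEq.respectTransparency.types false
set_option linter.style.haveILetI false
set_option linter.unusedSectionVars false
set_option maxHeartbeats 1000000
universe u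

noncomputable section

namespace Groth.Agent.GerbBG.IsoCls

open CategoryTheory CategoryTheory.Limits MonoidalCategory CartesianMonoidalCategory AlgebraicGeometry
open Opposite Groth.Agent.FibCatRep Groth.Agent.GerbLib Groth.Agent.GerbLib.Band Groth.Agent.Torsor
open Groth.Agent.IsoNatLib Groth.Agent.GerbBG.AxesNat
open scoped MonObj GrpObj

variable {S : Scheme.{u}} {G : Over S} [GrpObj G]

variable (G) in
/-- the section given by the trivial torsors -/
def x₀ : FibCat.overCat (T₀ S) ⥤ᵇ BG G where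
  toFunctor :=
    { obj := fun o => triv (G := G) o.left
      map := fun {o o'} f => (AlgSt.quotMap Scheme.fppfPrecoverage G (AlgSt.trivAction G)).map
        (⟨f.left, congrArg ULift.up (toUnit_unique _ _)⟩ :
          AlgStLib.qpt o.left (toUnit o.left) ⟶ AlgStLib.qpt o'.left (toUnit o'.left))
      map_id := fun o => AlgSt.QuotObj.hom_ext rfl (MonoidalCategory.whiskerLeft_id _ _)
      map_comp := fun f g => AlgSt.QuotObj.hom_ext rfl (MonoidalCategory.whiskerLeft_comp _ _ _) }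
  w := rfl

lemma x₀_base {o o' : Over (T₀ S)} (f : o ⟶ o') : ((x₀ G).map f).base = f.left := rfl

lemma x₀_top {o o' : Over (T₀ S)} (f : o ⟶ o') : ((x₀ G).map f).top = G ◁ f.left := rfl

/-- the unit section of the trivial torsor -/
abbrev σu (W : Over S) : (triv (G := G) W).base ⟶ (triv (G := G) W).P := lift (1 : W ⟶ G) (𝟙 W)

lemma σu_π (W : Over S) : σu (G := G) W ≫ (triv (G := G) W).π = 𝟙 _ := lift_snd _ _

lemma ofPoint_map {W : Over S} (g : W ⟶ G) :
    (BG G).p.map (ofPoint (triv (G := G) W) (lift g (𝟙 W))) = 𝟙 _ := by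
  show lift g (𝟙 W) ≫ snd G W = 𝟙 W
  rw [lift_snd]

/-- right translation -/
def er {W : Over S} (g : W ⟶ G) : Gerb.AutO (triv (G := G) W) :=
  (exists_autO (AlgStLib.Quot.isFibGrpd G _) _ (ofPoint_map g)).choose

lemma ah_er {W : Over S} (g : W ⟶ G) : ah (er g) = ofPoint (triv (G := G) W) (lift g (𝟙 W)) :=
  (exists_autO (AlgStLib.Quot.isFibGrpd G _) _ (ofPoint_map g)).choose_spec

lemma ah_base {W : Over S} (α : Gerb.AutO (triv (G := G) W)) : (ah α).base = 𝟙 W :=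
  map_ah (𝒮 := BG G) α

lemma er_top {W : Over S} (g : W ⟶ G) :
    (ah (er g)).top = (G ◁ lift g (𝟙 W)) ≫ (AlgSt.leftMul G W).act := by
  rw [ah_er]; rfl

/-- the element of an automorphism of the trivial torsor -/
def el {W : Over S} (α : Gerb.AutO (triv (G := G) W)) : W ⟶ G := σu W ≫ (ah α).top ≫ fst G W

lemma el_er {W : Over S} (g : W ⟶ G) : el (er g) = g := by
  rw [el, er_top]
  simp [AlgSt.leftMul, lift_whiskerLeft_assoc, comp_lift_assoc, MonObj.comp_mul, MonObj.comp_one]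

lemma el_injective {W : Over S} : Function.Injective (el (G := G) (W := W)) := fun α β e => by
  refine top_eq_of_sec (A := triv (G := G) W) (σu W) (σu_π W) ?_
  have hs : ∀ ρ : Gerb.AutO (triv (G := G) W), (σu W ≫ (ah ρ).top) ≫ snd G W = 𝟙 W := fun ρ => by
    have hw : (ah ρ).top ≫ snd G W = snd G W ≫ (ah ρ).base := (ah ρ).cart.w
    rw [Category.assoc, hw, ah_base]
    show σu W ≫ snd G W ≫ 𝟙 W = 𝟙 W
    rw [Category.comp_id, lift_snd]
  refine CartesianMonoidalCategory.hom_ext _ _ ?_ ((hs α).trans (hs β).symm)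
  rw [Category.assoc, Category.assoc]
  exact e

variable [IsCommMonObj G]

/-- the automorphisms of the trivial torsor -/
def erEquiv (W : Over S) : (W ⟶ G) ≃* Gerb.AutO (triv (G := G) W) :=
  MulEquiv.ofBijective (MonoidHom.mk' er fun g h => el_injective (by
    rw [el_er]
    show g * h = σu W ≫ (ah (er h) ≫ ah (er g) : triv (G := G) W ⟶ triv (G := G) W).top ≫ fst G W
    rw [AlgSt.QuotObj.comp_top, er_top, er_top]
    simp [AlgSt.leftMul, lift_whiskerLeft_assoc, comp_lift_assoc, MonObj.comp_mul, MonObj.comp_one, mul_comm]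
    show g * h = 𝟙 W ≫ g * 𝟙 W ≫ h
    rw [Category.id_comp, Category.id_comp]))
    ⟨fun g h e => by rw [← el_er g, ← el_er h]; exact congrArg el e,
      fun α => ⟨el α, el_injective (el_er _)⟩⟩

lemma comm_triv {W : Over S} (a b : Gerb.AutO (triv (G := G) W)) : a * b = b * a := by
  refine (erEquiv W).symm.injective ?_
  rw [map_mul, map_mul, mul_comm]

lemma er_nat {W' W : Over S} (f : W' ⟶ W) (g : W ⟶ G) :
    ah (er (f ≫ g)) ≫ (x₀ G).map (ptMap f) = (x₀ G).map (ptMap f) ≫ ah (er g) := by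
  refine AlgSt.QuotObj.hom_ext ?_ ?_
  · rw [AlgSt.QuotObj.comp_base, AlgSt.QuotObj.comp_base, ah_base, ah_base]
    exact (Category.id_comp _).trans (Category.comp_id _).symm
  · rw [AlgSt.QuotObj.comp_top, AlgSt.QuotObj.comp_top, er_top, er_top]
    show ((G ◁ lift (f ≫ g) (𝟙 W')) ≫ _) ≫ (G ◁ f) = (G ◁ f) ≫ (G ◁ lift g (𝟙 W)) ≫ _
    apply CartesianMonoidalCategory.hom_ext <;>
      simp [AlgSt.leftMul, lift_whiskerLeft_assoc, comp_lift_assoc, MonObj.comp_mul]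

/-! ### transport to the other stack -/

/-- the section pulled back to a scheme -/
abbrev res₀ {𝒵 : AlgSt.Cat S} (z : FibCat.overCat (T₀ S) ⥤ᵇ 𝒵) (W : Over S) : FibCat.overCat W ⥤ᵇ 𝒵 :=
  BasedFunctor.comp (AlgSt.overMap (toT W)) z

/-- comparison of the two descriptions of the point -/
abbrev ι₀ (W : Over S) : pt W ⟶ (AlgSt.overMap (toT W)).obj (Over.mk (𝟙 W)) :=
  Over.homMk (𝟙 W) (show 𝟙 W ≫ 𝟙 W ≫ toT W = toT W by simp)

lemma isIso_map_map {T : Over S} {𝒵 : AlgSt.Cat S} (z : FibCat.overCat T ⥤ᵇ 𝒵) {o o' : Over T} (m : o ⟶ o')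
    [IsIso m.left] : IsIso (𝒵.p.map (z.map m)) := by
  rw [map_map]
  haveI : IsIso ((FibCat.overCat T).p.map m) := ‹IsIso m.left›
  infer_instance

/-- evaluation of global automorphisms -/
def evH {𝒵 : AlgSt.Cat S} (hg : FibCat.IsFibGrpd 𝒵.p) (z : FibCat.overCat (T₀ S) ⥤ᵇ 𝒵) (W : Over S) :
    Axes.G₀ W (res₀ z W) →* Gerb.AutO (z.obj (pt W)) :=
  (conj hg (z.map (ι₀ W))).comp
    (MonoidHom.mk' (fun s : Axes.G₀ W (res₀ z W) => (s.1 (Tst.id₀ W) : Gerb.AutO (z.obj _))) fun _ _ => rfl)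

lemma evH_bijective {𝒵 : AlgSt.Cat S} (hg : FibCat.IsFibGrpd 𝒵.p) (z : FibCat.overCat (T₀ S) ⥤ᵇ 𝒵) (W : Over S) :
    Function.Bijective (evH hg z W) := by
  haveI : IsIso (ι₀ W).left := inferInstanceAs (IsIso (𝟙 W))
  haveI := isIso_map_map z (ι₀ W)
  refine (conj_bijective hg (z.map (ι₀ W))).comp ⟨fun a b e => sec_ext fun t => ?_,
    fun a => exists_globalSec (x := res₀ z W) hg a⟩
  let m : t.o ⟶ (Tst.id₀ W).o := Over.homMk t.w t.hw
  refine cancel hg ((res₀ z W).map m) (by rw [GerbLib.Band.map_ah, GerbLib.Band.map_ah]) ?_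
  rw [a.2 t (Tst.id₀ W) m (Category.comp_id _), b.2 t (Tst.id₀ W) m (Category.comp_id _)]
  exact congrArg (fun k => (res₀ z W).map m ≫ GerbLib.Band.ah k) e

lemma res₀_comp {𝒵 : AlgSt.Cat S} (z : FibCat.overCat (T₀ S) ⥤ᵇ 𝒵) {W' W : Over S} (f : W' ⟶ W) :
    BasedFunctor.comp (AlgSt.overMap f) (res₀ z W) = res₀ z W' := by
  show BasedFunctor.comp (BasedFunctor.comp (AlgSt.overMap f) (AlgSt.overMap (toT W))) z = _
  rw [overMap_comp, show f ≫ toT W = toT W' from Over.OverMorphism.ext (Over.w f)]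

lemma evH_nat {𝒵 : AlgSt.Cat S} (hg : FibCat.IsFibGrpd 𝒵.p) (z : FibCat.overCat (T₀ S) ⥤ᵇ 𝒵) {W' W : Over S}
    (f : W' ⟶ W) (g : Axes.G₀ W (res₀ z W)) (k : Axes.G₀ W' (res₀ z W'))
    (hk : ∀ (m : (AlgSt.overMap f).obj (Over.mk (𝟙 W')) ⟶ Over.mk (𝟙 W)),
        ah (k.1 (Tst.id₀ W')) ≫ eqToHom (congrArg (fun F : FibCat.overCat W' ⥤ᵇ 𝒵 => F.obj (Over.mk (𝟙 W')))
          (res₀_comp z f)).symm ≫ (res₀ z W).map m =
          eqToHom (congrArg (fun F : FibCat.overCat W' ⥤ᵇ 𝒵 => F.obj (Over.mk (𝟙 W'))) (res₀_comp z f)).symm ≫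
            (res₀ z W).map m ≫ ah (g.1 (Tst.id₀ W))) :
    ah (evH hg z W' k) ≫ z.map (ptMap f) = z.map (ptMap f) ≫ ah (evH hg z W g) := by
  let m : (AlgSt.overMap f).obj (Over.mk (𝟙 W')) ⟶ Over.mk (𝟙 W) := Over.homMk f (show f ≫ 𝟙 W = 𝟙 W' ≫ f by simp)
  haveI : IsIso (ι₀ W).left := inferInstanceAs (IsIso (𝟙 W))
  haveI := isIso_map_map z (ι₀ W)
  haveI := isIso_of_map hg (z.map (ι₀ W))
  refine (cancel_mono (z.map (ι₀ W))).1 ?_
  have hobj : (AlgSt.overMap (toT W')).obj (Over.mk (𝟙 W')) =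
      (AlgSt.overMap (toT W)).obj ((AlgSt.overMap f).obj (Over.mk (𝟙 W'))) :=
    congrArg Over.mk (show 𝟙 W' ≫ toT W' = (𝟙 W' ≫ f) ≫ toT W from Over.OverMorphism.ext (by simp))
  have key : z.map (ptMap f) ≫ z.map (ι₀ W) = z.map (ι₀ W') ≫
      eqToHom (congrArg z.obj hobj) ≫ (res₀ z W).map m := by
    show _ = _ ≫ _ ≫ z.map ((AlgSt.overMap (toT W)).map m)
    rw [← eqToHom_map z.toFunctor hobj, ← Functor.map_comp, ← Functor.map_comp, ← Functor.map_comp]
    congr 1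
    refine Over.OverMorphism.ext ?_
    have he : (eqToHom hobj).left = 𝟙 W' := by
      rw [Over.eqToHom_left]
      rfl
    show f ≫ 𝟙 W = 𝟙 W' ≫ (eqToHom hobj).left ≫ f
    rw [he]
    exact (Category.comp_id f).trans ((Category.id_comp _).trans (Category.id_comp _)).symm
  rw [Category.assoc, Category.assoc, key, show ah (evH hg z W g) ≫ z.map (ι₀ W) =
      z.map (ι₀ W) ≫ ah (g.1 (Tst.id₀ W)) from conj_spec hg _ _, reassoc_of% key,
    ← Category.assoc (ah _), show ah (evH hg z W' k) ≫ z.map (ι₀ W') =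
      z.map (ι₀ W') ≫ ah (k.1 (Tst.id₀ W')) from conj_spec hg _ _, Category.assoc]
  exact congrArg (z.map (ι₀ W') ≫ ·) (hk m)

section main

variable [IsAffineHom G.hom] {𝒴 : AlgSt.Cat S}
  (hd : AlgSt.RepByAlgSpWith AlgSp.IsSeparatedMor (FibCat.diag (FibCat.toSelf (BG G))))
  (h𝒴 : Stk.IsStack (Jf S) 𝒴)
  (h𝒴d : AlgSt.RepByAlgSpWith AlgSp.IsSeparatedMor (FibCat.diag (FibCat.toSelf 𝒴)))
  (φ : IsoNat.FIso (BG G) 𝒴) {y : FibCat.overCat (T₀ S) ⥤ᵇ 𝒴} (hy : Rel φ (x₀ G) y)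

include hd h𝒴 h𝒴d hy

/-- automorphisms of the corresponding point commute -/
lemma comm_y (o : Over (T₀ S)) (a b : Gerb.AutO (y.obj o)) : a * b = b * a := by
  have hS : Stk.IsStack (Jf S) (BG G) := isGerbe_BG.1
  have hx : Axes.PairCrit (BasedFunctor.comp (AlgSt.overMap o.hom) (x₀ G)) :=
    Axes.pairCrit_of_comm hS hd fun o' a b => comm_triv a b
  have hc := Axes.comm_top h𝒴 h𝒴d ((Axes.PairCrit.transport hS.1 h𝒴.1 (hy.overMap h𝒴.1 o.hom)).1 hx)
  let m : o ⟶ (AlgSt.overMap o.hom).obj (Over.mk (𝟙 o.left)) :=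
    Over.homMk (𝟙 o.left) (show 𝟙 o.left ≫ 𝟙 o.left ≫ o.hom = o.hom by simp)
  haveI : IsIso m.left := inferInstanceAs (IsIso (𝟙 o.left))
  haveI := isIso_map_map y m
  obtain ⟨a', rfl⟩ := (conj_bijective h𝒴.1 (y.map m)).2 a
  obtain ⟨b', rfl⟩ := (conj_bijective h𝒴.1 (y.map m)).2 b
  rw [← map_mul, ← map_mul]
  exact congrArg _ (hc a' b')

/-- the group is the automorphism group of the corresponding point -/
theorem nonempty_autRep : Nonempty (Gerb.AutRep y (Gerb.ptsGrp (T₀ S) G)) := by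
  have hS : Stk.IsStack (Jf S) (BG G) := isGerbe_BG.1
  have hcx : ∀ (W : Over S) (o : Over W) (a b : Gerb.AutO ((res₀ (x₀ G) W).obj o)), a * b = b * a :=
    fun W o a b => comm_triv a b
  have hcy : ∀ (W : Over S) (o : Over W) (a b : Gerb.AutO ((res₀ y W).obj o)), a * b = b * a :=
    fun W o a b => comm_y hd h𝒴 h𝒴d φ hy _ a b
  have hW : ∀ W, Rel φ (res₀ (x₀ G) W) (res₀ y W) := fun W => hy.overMap h𝒴.1 (toT W)
  choose E hE using fun W => exists_canEquiv hS hd h𝒴 h𝒴d (hW W) (hcx W) (hcy W)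
  let ex : ∀ W, Axes.G₀ W (res₀ (x₀ G) W) ≃* Gerb.AutO ((x₀ G).obj (pt W)) := fun W =>
    MulEquiv.ofBijective _ (evH_bijective hS.1 (x₀ G) W)
  let ey : ∀ W, Axes.G₀ W (res₀ y W) ≃* Gerb.AutO (y.obj (pt W)) := fun W =>
    MulEquiv.ofBijective _ (evH_bijective h𝒴.1 y W)
  let I : ∀ W, (W ⟶ G) ≃* Gerb.AutO (y.obj (pt W)) := fun W =>
    (erEquiv W).trans ((ex W).symm.trans ((E W).trans (ey W)))
  have hI : ∀ {W' W : Over S} (f : W' ⟶ W) (a : W ⟶ G),
      ah (I W' (f ≫ a)) ≫ y.map (ptMap f) = y.map (ptMap f) ≫ ah (I W a) := by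
    intro W' W f a
    let g := (ex W).symm (erEquiv W a)
    obtain ⟨k, k', hR, hk, hk'⟩ := exists_transfer hS.1 h𝒴.1 f (res₀_comp (x₀ G) f) (res₀_comp y f) (hE W g)
    have e₁ : ex W' k = erEquiv W' (f ≫ a) := by
      refine autO_ext (cancel hS.1 ((x₀ G).map (ptMap f)) ((map_ah _).trans (map_ah _).symm) ?_)
      refine (evH_nat hS.1 (x₀ G) f g k hk).trans ?_
      rw [show evH hS.1 (x₀ G) W g = erEquiv W a from (ex W).apply_symm_apply _]
      exact (er_nat f a).symm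
    have e₂ : E W' k = k' := R.unique_right hS hd h𝒴 h𝒴d (hW W') (hcx W') (hcy W') (hE W' k) hR
    show ah (ey W' (E W' ((ex W').symm (erEquiv W' (f ≫ a))))) ≫ _ = _
    rw [← e₁, MulEquiv.symm_apply_apply, e₂]
    exact evH_nat h𝒴.1 y f (E W g) k' hk'
  let cv : ∀ o : Over (T₀ S), ((Over.iteratedSliceForward (T₀ S)).obj o ⟶ G) ≃* (o.left ⟶ G) := fun o =>
    let e : o.left ⟶ (Over.iteratedSliceForward (T₀ S)).obj o := Over.homMk (𝟙 _) (by
      have h := Over.w o.hom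
      replace h : o.hom.left = o.left.hom := (Category.comp_id _).symm.trans h
      show 𝟙 _ ≫ o.hom.left = o.left.hom
      rw [Category.id_comp, h])
    haveI : IsIso ((Over.forget S).map e) := inferInstanceAs (IsIso (𝟙 o.left.left))
    haveI : IsIso e := isIso_of_reflects_iso e (Over.forget S)
    MulEquiv.mk' ⟨fun g => e ≫ g, fun g => inv e ≫ g, fun g => IsIso.inv_hom_id_assoc e g,
      fun g => IsIso.hom_inv_id_assoc e g⟩ fun g h => MonObj.comp_mul e g h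
  let κ : ∀ o : Over (T₀ S), o ⟶ pt o.left := fun o => Over.homMk (𝟙 _) (Over.OverMorphism.ext (by
    have h := Over.w o.hom
    replace h : o.hom.left = o.left.hom := (Category.comp_id _).symm.trans h
    show 𝟙 o.left.left ≫ o.left.hom = o.hom.left
    rw [Category.id_comp, h]))
  haveI : ∀ o, IsIso (𝒴.p.map (y.map (κ o))) := fun o =>
    haveI : IsIso (κ o).left := inferInstanceAs (IsIso (𝟙 o.left))
    isIso_map_map y (κ o)
  refine ⟨{ iso := fun o => (cv o).trans ((I o.left).trans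
              (MulEquiv.ofBijective _ (conj_bijective h𝒴.1 (y.map (κ o))))),
            natural := fun {o' o} h a => ?_ }⟩
  have sq : h ≫ κ o = κ o' ≫ ptMap h.left := Over.OverMorphism.ext (by
    show h.left ≫ 𝟙 _ = 𝟙 _ ≫ h.left
    simp)
  haveI := isIso_of_map h𝒴.1 (y.map (κ o))
  refine (cancel_mono (y.map (κ o))).1 ?_
  show (ah (conj h𝒴.1 (y.map (κ o')) _) ≫ y.map h) ≫ y.map (κ o) =
    (y.map h ≫ ah (conj h𝒴.1 (y.map (κ o)) _)) ≫ y.map (κ o)
  rw [Category.assoc, Category.assoc, conj_spec h𝒴.1 (y.map (κ o)), ← Category.assoc (y.map h), ← Functor.map_comp,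
    sq, Functor.map_comp, ← Category.assoc (ah _), conj_spec h𝒴.1 (y.map (κ o')), Category.assoc, Category.assoc]
  congr 1
  refine Eq.trans ?_ (hI h.left (cv o a))
  congr 3

omit hd h𝒴d in
/-- the other stack is a gerbe -/
theorem isGerbe : Gerb.IsGerbe (QuotSh.J Scheme.fppfPrecoverage S) 𝒴 := by
  have hB := isGerbe_BG (S := S) (G := G)
  refine ⟨h𝒴, fun U => ?_, fun z z' b hb => ?_⟩
  · refine ⟨⊤, GrothendieckTopology.top_mem _ _, fun V f _ => ?_⟩
    have hV : 𝒴.p.obj (y.obj (pt V)) = V := y.w_obj (pt V)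
    exact ⟨y.obj (pt V), eqToHom hV ≫ f,
      IsHomLift.of_fac' (FibCat.selfOver (Over S)).p _ _ hV rfl (by simp; rfl)⟩
  · have hz : 𝒴.p.obj z = 𝒴.p.obj z' :=
      (IsHomLift.codomain_eq (FibCat.selfOver (Over S)).p (𝟙 (𝒴.p.obj z)) b).symm
    obtain ⟨Z, hZ⟩ := exists_objCls h𝒴.1 (IsoNat.cls (Gerb.fib z))
    obtain ⟨Z', hZ'⟩ := exists_objCls h𝒴.1 (IsoNat.cls (⟨z', hz.symm⟩ : 𝒴.p.Fiber (𝒴.p.obj z)))
    obtain ⟨e⟩ := Quotient.exact hZ
    obtain ⟨e'⟩ := Quotient.exact hZ'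
    obtain ⟨c, hc⟩ := Rel.exists_left hB.1.1 φ Z
    obtain ⟨c', hc'⟩ := Rel.exists_left hB.1.1 φ Z'
    let top : Over (𝒴.p.obj z) := Over.mk (𝟙 _)
    obtain ⟨R, hR, hR'⟩ := exists_cover_pair hB (x := c.obj top) (x' := c'.obj top)
      ((c.w_obj top).trans (c'.w_obj top).symm)
    refine ⟨R.pullback (eqToHom (c.w_obj top).symm),
      GrothendieckTopology.pullback_stable _ _ hR, fun V f hf => ?_⟩
    let m : (AlgSt.overMap f).obj (Over.mk (𝟙 V)) ⟶ top := Over.homMk f (show f ≫ 𝟙 _ = 𝟙 V ≫ f by simp)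
    obtain ⟨ψ, hψ⟩ := hR' _ (c.map m) (by
      rw [map_map]
      exact R.downward_closed hf _)
    have hcm : (BG G).p.map (c'.map m) = eqToHom (c'.w_obj _) ≫ f ≫ eqToHom (c'.w_obj top).symm := map_map c' m
    obtain ⟨χ, ⟨hχ, -⟩, -⟩ := existsUnique_cart hB.1.1 (c'.map m) ψ
      (eqToHom ((c.w_obj ((AlgSt.overMap f).obj (Over.mk (𝟙 V)))).trans
        (c'.w_obj ((AlgSt.overMap f).obj (Over.mk (𝟙 V)))).symm)) (by
        rw [hψ, hcm, map_map]
        simp
        rfl)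
    obtain ⟨i⟩ := Rel.nonempty_iso h𝒴.1 (hc.overMap h𝒴.1 f) (hc'.overMap h𝒴.1 f)
      ((nonempty_iso_iff hB.1.1 _ _).2 (cls_eq_of_vertical hB.1.1 _ _ χ hχ))
    have g₁ : 𝒴.p.map e.hom.1 = eqToHom (Z.w_obj top) := (map_of_fiber e.hom).trans rfl
    have g₂ : 𝒴.p.map e'.hom.1 = eqToHom ((Z'.w_obj top).trans hz) := (map_of_fiber e'.hom).trans rfl
    let A := (AlgSt.overMap f).obj (Over.mk (𝟙 V))
    refine ⟨Z.obj A, Z.map m ≫ e.hom.1, i.hom.toNatTrans.app (Over.mk (𝟙 V)) ≫ Z'.map m ≫ e'.hom.1, ?_, ?_, ?_⟩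
    · refine IsHomLift.of_fac' 𝒴.p _ _ (Z.w_obj A) rfl ?_
      rw [Functor.map_comp, map_map, g₁]
      simp
      rfl
    · refine IsHomLift.of_fac' 𝒴.p _ _ (Z.w_obj A) hz.symm ?_
      rw [Functor.map_comp, Functor.map_comp, map_app, map_map, g₂]
      simp
      rfl
    · show 𝒴.p.map _ ≫ b = 𝒴.p.map _
      rw [show b = eqToHom hz from
        (IsHomLift.fac' (FibCat.selfOver (Over S)).p (𝟙 (𝒴.p.obj z)) b).trans (by simp)]
      rw [Functor.map_comp, Functor.map_comp, Functor.map_comp, map_app, map_map, map_map, g₁, g₂]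
      simp

omit hy in
include φ in
theorem exists_equiv : ∃ e : BG G ⥤ᵇ 𝒴, FibCat.IsEquivOver e := by
  obtain ⟨y, hy⟩ := Rel.exists_right h𝒴.1 φ (x₀ G)
  obtain ⟨r⟩ := nonempty_autRep hd h𝒴 h𝒴d φ hy
  refine ⟨twist r h𝒴, isEquivOver_of_autMap_bijective (s := triv (G := G) (T₀ S)) isGerbe_BG
    (isGerbe h𝒴 φ hy) (twist r h𝒴) (fun U => ⟨toT U⟩) ?_⟩
  rintro A ⟨q⟩
  let σ : A.base ⟶ A.P := q.cart.lift (lift (1 : A.base ⟶ G) q.base) (𝟙 _)
    ((lift_snd _ _).trans (Category.id_comp _).symm)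
  exact autMap_bijective_of_sec r h𝒴 σ (q.cart.lift_snd _ _ _)

end main

end Groth.Agent.GerbBG.IsoCls

end
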