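import Groth.Agent.GerbBG.Descent
import Groth.Agent.GerbLib.Equiv
import Groth.Agent.GerbLib.BaseChange
import Groth.Agent.S12836

/-!
# A neutral gerbe over the base scheme is the classifying stack of the automorphism group of its section
-/

set_option autoImplicit false
set_option backward.isDefEq.respectTransparency false
set_option backward.isDefEq.respectTransparency.types false
set_option linter.style.haveILetI false
set_option maxHeartbeats 1000000
universe u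

noncomputable section

namespace Groth.Agent.GerbBG

open CategoryTheory CategoryTheory.Limits MonoidalCategory CartesianMonoidalCategory MonObj GrpObj AlgebraicGeometry
open Opposite Groth.Agent.FibCatRep Groth.Agent.GerbLib Groth.Agent.GerbLib.Band Groth.Agent.Torsor

variable {S : Scheme.{u}} {𝒳 : AlgSt.Cat S} {x : FibCat.overCat (T₀ S) ⥤ᵇ 𝒳} {G : Over S} [GrpObj G]
  (r : Gerb.AutRep x (Gerb.ptsGrp (T₀ S) G)) (h𝒳 : Stk.IsStack (QuotSh.J Scheme.fppfPrecoverage S) 𝒳)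

variable (G) in
/-- the classifying stack -/
abbrev BG : AlgSt.Cat S := AlgSt.QuotSt Scheme.fppfPrecoverage G (AlgSt.trivAction G)

lemma exists_map {A B : (BG G).obj} (q : A ⟶ B) :
    ∃! M : (desc r h𝒳 A).ζ ⟶ (desc r h𝒳 B).ζ,
      𝒳.p.map M = eqToHom (desc r h𝒳 A).hζ ≫ q.base ≫ eqToHom (desc r h𝒳 B).hζ.symm ∧
      (desc r h𝒳 A).τ ≫ M = xm x q.top ≫ (desc r h𝒳 B).τ := by
  refine existsUnique_hom h𝒳 (desc r h𝒳 A) _ _ ?_ ?_
  · rw [Functor.map_comp, map_xm, (desc r h𝒳 B).hτ]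
    simp [reassoc_of% q.cart.w]
  · intro W g p
    rw [← Category.assoc, ← xm_comp, ← Category.assoc (xm x p), ← xm_comp]
    have e : smul A.act g p ≫ q.top = smul B.act g (p ≫ q.top) := by
      rw [smul, smul, Category.assoc, q.eqv, lift_whiskerLeft_assoc]
    rw [e]
    exact (desc r h𝒳 B).inv g (p ≫ q.top)

/-- the twist, as a morphism -/
def mapHom {A B : (BG G).obj} (q : A ⟶ B) : (desc r h𝒳 A).ζ ⟶ (desc r h𝒳 B).ζ :=
  (exists_map r h𝒳 q).choose

lemma mapHom_base {A B : (BG G).obj} (q : A ⟶ B) :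
    𝒳.p.map (mapHom r h𝒳 q) = eqToHom (desc r h𝒳 A).hζ ≫ q.base ≫ eqToHom (desc r h𝒳 B).hζ.symm :=
  (exists_map r h𝒳 q).choose_spec.1.1

lemma τ_mapHom {A B : (BG G).obj} (q : A ⟶ B) :
    (desc r h𝒳 A).τ ≫ mapHom r h𝒳 q = xm x q.top ≫ (desc r h𝒳 B).τ :=
  (exists_map r h𝒳 q).choose_spec.1.2

lemma mapHom_unique {A B : (BG G).obj} (q : A ⟶ B) (M : (desc r h𝒳 A).ζ ⟶ (desc r h𝒳 B).ζ)
    (h : 𝒳.p.map M = eqToHom (desc r h𝒳 A).hζ ≫ q.base ≫ eqToHom (desc r h𝒳 B).hζ.symm)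
    (h' : (desc r h𝒳 A).τ ≫ M = xm x q.top ≫ (desc r h𝒳 B).τ) : mapHom r h𝒳 q = M :=
  ((exists_map r h𝒳 q).choose_spec.2 M ⟨h, h'⟩).symm

/-- twisting the point by torsors -/
def twist : BG G ⥤ᵇ 𝒳 where
  toFunctor :=
    { obj := fun A => (desc r h𝒳 A).ζ
      map := fun q => mapHom r h𝒳 q
      map_id := fun A => mapHom_unique r h𝒳 (𝟙 A) _
        (by rw [CategoryTheory.Functor.map_id, AlgSt.QuotObj.id_base]; simp)
        (by rw [AlgSt.QuotObj.id_top, xm_id, Category.comp_id, Category.id_comp])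
      map_comp := fun {A B C} p q => mapHom_unique r h𝒳 (p ≫ q) _
        (by rw [Functor.map_comp, mapHom_base, mapHom_base, AlgSt.QuotObj.comp_base]; simp)
        (by rw [← Category.assoc, τ_mapHom, Category.assoc, τ_mapHom, ← Category.assoc, ← xm_comp,
          AlgSt.QuotObj.comp_top]) }
  w := CategoryTheory.Functor.ext (fun A => (desc r h𝒳 A).hζ) (fun A B q => mapHom_base r h𝒳 q)

/-! ### gerbes -/

/-- the trivial torsor over an object -/
abbrev triv (T : Over S) : (BG G).obj :=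
  (AlgSt.quotMap Scheme.fppfPrecoverage G (AlgSt.trivAction G)).obj (AlgStLib.qpt T (toUnit T))

omit r in
/-- the map of a trivial torsor given by a point -/
def ofPoint (A : (BG G).obj) {T : Over S} (p : T ⟶ A.P) : triv (G := G) T ⟶ A where
  base := p ≫ A.π
  top := (AlgStLib.Quot.trivHom A p).top
  eqv := (AlgStLib.Quot.trivHom A p).eqv
  cart := (AlgStLib.Quot.trivHom A p).cart
  wφ := toUnit_unique _ _

theorem isGerbe_BG [IsAffineHom G.hom] : Gerb.IsGerbe (QuotSh.J Scheme.fppfPrecoverage S) (BG G) := by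
  refine ⟨Groth.Agent.S12836.result S G _ _, fun U => ?_, fun A A' b hb => ?_⟩
  · refine ⟨⊤, GrothendieckTopology.top_mem _ _, fun V f _ => ⟨triv V, f, ?_⟩⟩
    exact IsHomLift.of_fac' (FibCat.selfOver (Over S)).p _ _ rfl rfl (by simp; rfl)
  · have e : A.base = A'.base :=
      (IsHomLift.codomain_eq (FibCat.selfOver (Over S)).p (𝟙 ((BG G).p.obj A)) b).symm
    have hb' : b = eqToHom e :=
      (IsHomLift.fac' (FibCat.selfOver (Over S)).p (𝟙 ((BG G).p.obj A)) b).trans (by simp)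
    refine ⟨secSieve A ⊓ (secSieve A').pullback b,
      GrothendieckTopology.intersection_covering _ (secSieve_mem A)
        (GrothendieckTopology.pullback_stable _ b (secSieve_mem A')), ?_⟩
    rintro V f ⟨⟨p, hp⟩, ⟨p', hp'⟩⟩
    refine ⟨triv V, ofPoint A p, ofPoint A' p', ?_, ?_, ?_⟩
    · refine IsHomLift.of_fac' (BG G).p _ _ rfl rfl ?_
      simp only [eqToHom_refl, Category.id_comp, Category.comp_id]
      exact hp
    · refine IsHomLift.of_fac' (BG G).p _ _ rfl e.symm ?_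
      simp only [eqToHom_refl, Category.id_comp]
      exact hp'.trans (congrArg (f ≫ ·) hb')
    · show (p ≫ A.π) ≫ b = p' ≫ A'.π
      rw [hp, hp']

include h𝒳 in
theorem isGerbe_of_gerbeOver (π : 𝒳 ⥤ᵇ FibCat.overCat (T₀ S))
    (hπ : Gerb.IsGerbeOver (QuotSh.J Scheme.fppfPrecoverage S) π) :
    Gerb.IsGerbe (QuotSh.J Scheme.fppfPrecoverage S) 𝒳 := by
  refine ⟨h𝒳, fun U => ?_, fun z z' b hb => ?_⟩
  · obtain ⟨R, hR, hR'⟩ := hπ.1 (pt U)
    refine ⟨R, hR, fun V f hf => ?_⟩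
    obtain ⟨z, g, hg⟩ := hR' f hf
    have hV : 𝒳.p.obj z = V := (π.w_obj z).symm.trans (IsHomLift.domain_eq (FibCat.overCat (T₀ S)).p f g)
    exact ⟨z, eqToHom hV ≫ f, IsHomLift.of_fac' (FibCat.selfOver (Over S)).p _ _ hV rfl (by simp; rfl)⟩
  · have hz : 𝒳.p.obj z = 𝒳.p.obj z' :=
      (IsHomLift.codomain_eq (FibCat.selfOver (Over S)).p (𝟙 (𝒳.p.obj z)) b).symm
    have hl : (π.obj z).left = (π.obj z').left := (π.w_obj z).trans (hz.trans (π.w_obj z').symm)
    let b' : π.obj z ⟶ π.obj z' := Over.homMk (eqToHom hl) (Over.OverMorphism.ext (by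
      have h₁ := Over.w (π.obj z').hom
      have h₂ := Over.w (π.obj z).hom
      replace h₁ : (π.obj z').hom.left = (π.obj z').left.hom := (Category.comp_id _).symm.trans h₁
      replace h₂ : (π.obj z).hom.left = (π.obj z).left.hom := (Category.comp_id _).symm.trans h₂
      show (eqToHom hl).left ≫ (π.obj z').hom.left = (π.obj z).hom.left
      rw [h₁, h₂]
      exact Over.w (eqToHom hl)))
    obtain ⟨R, hR, hR'⟩ := hπ.2 z z' b' (IsHomLift.of_fac' (FibCat.overCat (T₀ S)).p _ _ (π.w_obj z)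
      ((π.w_obj z').trans hz.symm) (show eqToHom hl = _ by simp))
    refine ⟨R, hR, fun V f hf => ?_⟩
    obtain ⟨z₀, φ, ψ, hφ, hψ, -⟩ := hR' f hf
    refine ⟨z₀, φ, ψ, hφ, hψ, ?_⟩
    show 𝒳.p.map φ ≫ b = 𝒳.p.map ψ
    rw [IsHomLift.fac' 𝒳.p f φ, IsHomLift.fac' 𝒳.p f ψ,
      show b = eqToHom hz from (IsHomLift.fac' (FibCat.selfOver (Over S)).p (𝟙 (𝒳.p.obj z)) b).trans (by simp)]
    simp

/-! ### automorphisms -/

variable {A : (BG G).obj} (σ : A.base ⟶ A.P) (hσ : σ ≫ A.π = 𝟙 _)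

omit hσ in
lemma twist_conj (α : Gerb.AutO A) (g : A.base ⟶ G) (hg : smul A.act g σ = σ ≫ (ah α).top) :
    (xm x σ ≫ (desc r h𝒳 A).τ) ≫ ah (Gerb.autMap (twist r h𝒳) A α) =
      a r g⁻¹ ≫ xm x σ ≫ (desc r h𝒳 A).τ := by
  rw [map_autO]
  show _ ≫ mapHom r h𝒳 (ah α) = _
  rw [Category.assoc, τ_mapHom, ← Category.assoc, ← xm_comp, ← hg, (desc r h𝒳 A).inv g σ]

include hσ in
lemma top_eq_of_sec {α α' : Gerb.AutO A} (h : σ ≫ (ah α).top = σ ≫ (ah α').top) : α = α' := by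
  have hb : ∀ β : Gerb.AutO A, (ah β).base = 𝟙 A.base := fun β => map_ah β
  obtain ⟨c, hc, -⟩ := existsUnique_diff A (A.π ≫ σ) (𝟙 A.P)
    (by rw [Category.assoc, hσ, Category.comp_id, Category.id_comp])
  have key : ∀ β : Gerb.AutO A, (ah β).top = smul A.act c (A.π ≫ σ ≫ (ah β).top) := fun β => by
    conv_lhs => rw [← Category.id_comp (ah β).top, ← hc]
    rw [smul, smul, Category.assoc, (ah β).eqv, lift_whiskerLeft_assoc, Category.assoc]
  exact autO_ext (AlgSt.QuotObj.hom_ext ((hb α).trans (hb α').symm) (by rw [key α, key α', h]))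

include hσ in
theorem autMap_bijective_of_sec :
    Function.Bijective (Gerb.autMap (twist r h𝒳) A) := by
  let D := desc r h𝒳 A
  let K₀ : xo x A.base ⟶ D.ζ := xm x σ ≫ D.τ
  have hK₀ : 𝒳.p.map K₀ = eqToHom ((xw x A.base).trans D.hζ.symm) := by
    rw [Functor.map_comp, map_xm, D.hτ]
    simp [reassoc_of% hσ]
  haveI : IsIso (𝒳.p.map K₀) := by rw [hK₀]; infer_instance
  haveI := isIso_of_map h𝒳.1 K₀
  refine ⟨fun α α' h => ?_, fun β => ?_⟩
  · have hd : ∀ γ' : Gerb.AutO A, ∃ g : A.base ⟶ G, smul A.act g σ = σ ≫ (ah γ').top := fun γ' => by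
      refine (existsUnique_diff A σ (σ ≫ (ah γ').top) ?_).exists
      rw [Category.assoc, (ah γ').cart.w, show (ah γ').base = 𝟙 A.base from map_ah γ', Category.comp_id]
    obtain ⟨g, hg⟩ := hd α
    obtain ⟨g', hg'⟩ := hd α'
    have e := twist_conj r h𝒳 σ α g hg
    rw [h, twist_conj r h𝒳 σ α' g' hg'] at e
    have : a r g'⁻¹ = a r g⁻¹ := (cancel_mono K₀).1 e
    exact top_eq_of_sec σ hσ (by rw [← hg, ← hg', inv_injective (a_injective r this)])
  · let b₀ : D.ζ ⟶ D.ζ := ah β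
    let φ := K₀ ≫ b₀ ≫ inv K₀
    have hβ : 𝒳.p.map b₀ = eqToHom (rfl : 𝒳.p.obj D.ζ = 𝒳.p.obj D.ζ) :=
      (map_ah β).trans (eqToHom_refl _ rfl).symm
    have hφ : 𝒳.p.map φ = 𝟙 _ := by
      show 𝒳.p.map (K₀ ≫ b₀ ≫ inv K₀) = _
      rw [𝒳.p.map_comp K₀, 𝒳.p.map_comp b₀, hβ, map_inv_of_eqToHom K₀ hK₀, hK₀]
      simp
    obtain ⟨h, hh⟩ := exists_a r φ h𝒳.1 hφ
    obtain ⟨c, hc, hcu⟩ := existsUnique_diff A (A.π ≫ σ) (𝟙 A.P)
      (by rw [Category.assoc, hσ, Category.comp_id, Category.id_comp])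
    let t : (A.base ⟶ G) → (A.P ⟶ A.P) := fun g => smul A.act (c * (A.π ≫ g)) (A.π ≫ σ)
    have htπ : ∀ g, t g ≫ A.π = A.π := fun g => by
      rw [smul_π, Category.assoc, hσ, Category.comp_id]
    have hσc : σ ≫ c = 1 := by
      obtain ⟨d, -, hd⟩ := existsUnique_diff A σ σ rfl
      refine (hd _ ?_).trans (hd 1 (Torsor.one_smul A.act σ)).symm
      have := comp_smul A.act σ c (A.π ≫ σ)
      rw [hc, Category.comp_id, reassoc_of% hσ] at this
      exact this.symm
    have htc : ∀ g, t g ≫ c = c * (A.π ≫ g) := fun g => by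
      obtain ⟨d, -, hd⟩ := existsUnique_diff A (A.π ≫ σ) (t g)
        (by rw [htπ, Category.assoc, hσ, Category.comp_id])
      refine (hd _ ?_).trans (hd _ rfl).symm
      have := comp_smul A.act (t g) c (A.π ≫ σ)
      rw [hc, Category.comp_id, reassoc_of% (htπ g)] at this
      exact this.symm
    have htcomp : ∀ g g', t g ≫ t g' = t (g * g') := fun g g' => by
      show t g ≫ smul A.act (c * (A.π ≫ g')) (A.π ≫ σ) = _
      rw [comp_smul, MonObj.comp_mul, htc, reassoc_of% (htπ g), reassoc_of% (htπ g), _root_.mul_assoc,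
        ← MonObj.comp_mul]
    have ht1 : t 1 = 𝟙 A.P := by
      show smul A.act (c * (A.π ≫ 1)) (A.π ≫ σ) = _
      rw [MonObj.comp_one, _root_.mul_one, hc]
    have hteqv : ∀ g, A.act.act ≫ t g = (G ◁ t g) ≫ A.act.act := fun g => by
      have hact : A.act.act ≫ A.π = snd G A.P ≫ A.π := A.cart.w
      have hcact : A.act.act ≫ c = fst G A.P * (snd G A.P ≫ c) := by
        obtain ⟨d, -, hd⟩ := existsUnique_diff A (A.act.act ≫ A.π ≫ σ) A.act.act
          (by rw [Category.assoc, Category.assoc, hσ, Category.comp_id])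
        refine (hd _ ?_).trans (hd _ ?_).symm
        · have := comp_smul A.act A.act.act c (A.π ≫ σ)
          rw [hc, Category.comp_id] at this
          exact this.symm
        · beta_reduce
          rw [Torsor.mul_smul]
          have := comp_smul A.act (snd G A.P) c (A.π ≫ σ)
          rw [hc, Category.comp_id, ← reassoc_of% hact] at this
          rw [← this]
          show lift (fst G A.P) (snd G A.P) ≫ A.act.act = A.act.act
          rw [lift_fst_snd, Category.id_comp]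
      have e : (G ◁ t g) ≫ A.act.act = smul A.act (fst G A.P) (snd G A.P ≫ t g) := by
        show _ = lift (fst G A.P) (snd G A.P ≫ t g) ≫ A.act.act
        congr 1
      rw [e]
      show A.act.act ≫ smul A.act (c * (A.π ≫ g)) (A.π ≫ σ) =
        smul A.act (fst G A.P) (snd G A.P ≫ smul A.act (c * (A.π ≫ g)) (A.π ≫ σ))
      rw [comp_smul, comp_smul, ← Torsor.mul_smul, MonObj.comp_mul, MonObj.comp_mul, hcact,
        reassoc_of% hact, reassoc_of% hact, _root_.mul_assoc]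
    let mk : (A.base ⟶ G) → (A ⟶ A) := fun g =>
      { base := 𝟙 _
        top := t g
        eqv := hteqv g
        cart := by
          haveI : IsIso (t g) := ⟨t g⁻¹, by rw [htcomp, mul_inv_cancel, ht1], by
            rw [htcomp, inv_mul_cancel, ht1]⟩
          exact IsPullback.of_horiz_isIso ⟨by rw [htπ, Category.comp_id]⟩
        wφ := toUnit_unique _ _ }
    obtain ⟨α, hα⟩ := exists_autO (𝒮 := BG G) (AlgStLib.Quot.isFibGrpd G _) (mk h⁻¹) rfl
    refine ⟨α, autO_ext ?_⟩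
    have hg : smul A.act h⁻¹ σ = σ ≫ (ah α).top := by
      rw [hα]
      show _ = σ ≫ smul A.act (c * (A.π ≫ h⁻¹)) (A.π ≫ σ)
      rw [comp_smul, MonObj.comp_mul, hσc, reassoc_of% hσ, reassoc_of% hσ, _root_.one_mul]
    have e := twist_conj r h𝒳 σ α h⁻¹ hg
    rw [_root_.inv_inv, hh] at e
    refine (cancel_epi K₀).1 (e.trans ?_)
    show (K₀ ≫ b₀ ≫ inv K₀) ≫ K₀ = K₀ ≫ b₀
    simp

include r h𝒳 in
theorem isQuotientOf [IsAffineHom G.hom] (π : 𝒳 ⥤ᵇ FibCat.overCat (T₀ S))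
    (hπ : Gerb.IsGerbeOver (QuotSh.J Scheme.fppfPrecoverage S) π) :
    AlgSt.IsQuotientOf Scheme.fppfPrecoverage G (AlgSt.trivAction G) 𝒳 := by
  refine ⟨twist r h𝒳, isEquivOver_of_autMap_bijective (s := triv (G := G) (T₀ S)) isGerbe_BG
    (isGerbe_of_gerbeOver h𝒳 π hπ) (twist r h𝒳) (fun U => ⟨toT U⟩) ?_⟩
  rintro A ⟨q⟩
  let σ : A.base ⟶ A.P := q.cart.lift (lift (1 : A.base ⟶ G) q.base) (𝟙 _)
    ((lift_snd _ _).trans (Category.id_comp _).symm)
  exact autMap_bijective_of_sec r h𝒳 σ (q.cart.lift_snd _ _ _)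

end Groth.Agent.GerbBG
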