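import Groth.Agent.GerbLib.Equiv

/-!
Full faithfulness of a morphism from a neutral gerbe to a stack which is bijective on the automorphisms of the section.
-/

set_option autoImplicit false
set_option backward.isDefEq.respectTransparency false
set_option backward.isDefEq.respectTransparency.types false
set_option linter.style.haveILetI false
universe v u

namespace Groth.Agent.GerbBG.StackTarget

open CategoryTheory Category Groth.Agent.FibCatRep Groth.Agent.GerbLib Groth.Agent.GerbLib.Band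

variable {C : Type u} [Category.{v} C] {J : GrothendieckTopology C}
  {𝒳 𝒴 : BasedCategory.{v, max u v} C}

section main

variable (h𝒳 : Gerb.IsGerbe J 𝒳) (hY : Stk.IsStack J 𝒴) (F : 𝒳 ⥤ᵇ 𝒴) {s : 𝒳.obj}
  (hs : ∀ U : C, Nonempty (U ⟶ 𝒳.p.obj s))
  (hF : ∀ (x : 𝒳.obj), Nonempty (x ⟶ s) → Function.Bijective (Gerb.autMap F x))

include h𝒳 hY hs hF in
theorem autMap_bijective (x : 𝒳.obj) : Function.Bijective (Gerb.autMap F x) := by
  have hg := h𝒳.1.1
  obtain ⟨R, hR, hR'⟩ := exists_cover_to h𝒳 hs x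
  refine ⟨fun α α' h => ?_, fun β => ?_⟩
  · apply autO_ext
    refine hom_ext_local h𝒳.1 ((map_ah α).trans (eqToHom_refl _ rfl).symm)
      ((map_ah α').trans (eqToHom_refl _ rfl).symm) hR fun V f hf => ?_
    obtain ⟨y, φ, hy, hφ, ht⟩ := hR' f hf
    refine ⟨y, φ, hy, hφ, ?_⟩
    obtain ⟨a, ha, -⟩ := existsUnique_conj hg φ α
    obtain ⟨a', ha', -⟩ := existsUnique_conj hg φ α'
    rw [← ha, ← ha', show a = a' from (hF y ht).1 ?_]
    apply autO_ext
    refine cancel hY.1 (F.map φ) (by rw [map_ah, map_ah]) ?_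
    rw [map_autO, map_autO, ← Functor.map_comp, ← Functor.map_comp, ha, ha', Functor.map_comp,
      Functor.map_comp]
    rw [← map_autO, ← map_autO, h]
  · have hto : ∀ (y : 𝒳.obj) (φ : y ⟶ x), R (𝒳.p.map φ) → Nonempty (y ⟶ s) := fun y φ h => by
      obtain ⟨y₀, φ₀, hy, hφ₀, ⟨t⟩⟩ := hR' _ h
      obtain ⟨χ, -, -⟩ := existsUnique_cart hg φ₀ φ (eqToHom hy.symm) (by rw [hφ₀]; simp)
      exact ⟨χ ≫ t⟩
    choose b hb hbu using fun (y : 𝒳.obj) (φ : y ⟶ x) => existsUnique_conj hY.1 (F.map φ) β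
    choose a ha using fun (y : 𝒳.obj) (φ : y ⟶ x) (h : R (𝒳.p.map φ)) => (hF y (hto y φ h)).2 (b y φ)
    have ha' : ∀ y φ h, F.map (ah (a y φ h)) = ah (b y φ) := fun y φ h => congrArg ah (ha y φ h)
    obtain ⟨α, hα, -⟩ := existsUnique_glue h𝒳.1 hR a fun y' y ψ φ h h' => by
      obtain ⟨c, hc, -⟩ := existsUnique_conj hg ψ (a y φ h)
      rw [← hc, show a y' (ψ ≫ φ) h' = c from (hF y' (hto _ _ h')).1 ?_]
      refine (ha y' _ h').trans (hbu y' _ _ ?_).symm
      show ah _ ≫ F.map (ψ ≫ φ) = _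
      rw [map_autO, Functor.map_comp, ← Category.assoc, ← Functor.map_comp, hc, Functor.map_comp,
        Category.assoc, ha', hb, Category.assoc]
    refine ⟨α, autO_ext (hom_ext_image hY hg F ((map_ah _).trans (eqToHom_refl _ rfl).symm)
      ((map_ah β).trans (eqToHom_refl _ rfl).symm) hR fun V f hf => ?_)⟩
    obtain ⟨y, φ, hy, hφ, -⟩ := hR' f hf
    have h : R (𝒳.p.map φ) := by rw [hφ]; exact R.downward_closed hf _
    refine ⟨y, φ, hy, hφ, ?_⟩
    rw [map_autO, ← Functor.map_comp, ← hα y φ h, Functor.map_comp, ha', hb]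

include h𝒳 hY hs hF in
theorem faithful : F.toFunctor.Faithful where
  map_injective {a b} {m m'} h := by
    have hg := h𝒳.1.1
    obtain ⟨χ, ⟨hχ, hc⟩, -⟩ := existsUnique_cart hg m' m (𝟙 _) (by rw [id_comp, w_cancel F h])
    obtain ⟨α, hα⟩ := exists_autO hg χ hχ
    have h1 : ah (Gerb.autMap F a α) = ah (1 : Gerb.AutO (F.obj a)) := by
      refine cancel hY.1 (F.map m') (by rw [map_ah, map_ah]) ?_
      rw [map_autO, hα, ← Functor.map_comp, hc, ah_one, id_comp]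
      exact h
    have h2 : α = 1 := (autMap_bijective h𝒳 hY F hs hF a).1
      ((autO_ext h1).trans (map_one (Gerb.autMap F a)).symm)
    rw [← hc, ← hα, h2, ah_one, id_comp]

include h𝒳 hY hs hF in
lemma exists_hom_over_id {x x' : 𝒳.obj} (b : F.obj x ⟶ F.obj x') (e : 𝒳.p.obj x = 𝒳.p.obj x')
    (hb : 𝒴.p.map b = eqToHom ((F.w_obj x).trans (e.trans (F.w_obj x').symm))) :
    ∃ M : x ⟶ x', F.map M = b := by
  have hg := h𝒳.1.1
  have := faithful h𝒳 hY F hs hF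
  obtain ⟨R, hR, hR'⟩ := exists_cover_pair h𝒳 e
  have hloc : ∀ (y : 𝒳.obj) (φ : y ⟶ x), R (𝒳.p.map φ) →
      ∃ m : y ⟶ x', 𝒳.p.map m = 𝒳.p.map φ ≫ eqToHom e ∧ F.map m = F.map φ ≫ b := fun y φ h => by
    obtain ⟨ψ, hψ⟩ := hR' y φ h
    obtain ⟨k, ⟨hk, hk'⟩, -⟩ := existsUnique_cart hY.1 (F.map ψ) (F.map φ ≫ b) (𝟙 _)
      (by rw [Functor.map_comp, map_map, map_map, hb, hψ]; simp)
    obtain ⟨β, hβ⟩ := exists_autO hY.1 k hk
    obtain ⟨α, hα⟩ := (autMap_bijective h𝒳 hY F hs hF y).2 β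
    refine ⟨ah α ≫ ψ, by rw [Functor.map_comp, map_ah, id_comp, hψ], ?_⟩
    rw [Functor.map_comp, ← map_autO, hα, hβ, hk']
  choose m hm hm' using hloc
  obtain ⟨M, ⟨hM, hM'⟩, -⟩ := existsUnique_glueHom h𝒳.1 e hR m hm fun y' y ψ φ h h' =>
    F.toFunctor.map_injective (by rw [Functor.map_comp, hm', hm', Functor.map_comp, Category.assoc])
  refine ⟨M, hom_ext_image hY hg F
    (e := (F.w_obj x).trans (e.trans (F.w_obj x').symm)) (by rw [map_map, hM]; simp) hb hR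
    fun V f hf => ?_⟩
  obtain ⟨y, φ, hy, hφ⟩ := exists_lift hg f
  refine ⟨y, φ, hy, hφ, ?_⟩
  rw [← Functor.map_comp, hM' y φ (by rw [hφ]; exact R.downward_closed hf _), hm']

include h𝒳 hY hs hF in
theorem full : F.toFunctor.Full where
  map_surjective {a c} b := by
    obtain ⟨z, ψ, hz, hψ⟩ := exists_lift h𝒳.1.1 (x := c)
      (eqToHom (F.w_obj a).symm ≫ 𝒴.p.map b ≫ eqToHom (F.w_obj c))
    obtain ⟨b₀, ⟨hb₀, hb₀'⟩, -⟩ := existsUnique_cart hY.1 (F.map ψ) b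
      (eqToHom ((F.w_obj a).trans (hz.symm.trans (F.w_obj z).symm))) (by rw [map_map, hψ]; simp)
    obtain ⟨M, hM⟩ := exists_hom_over_id h𝒳 hY F hs hF b₀ hz.symm (hb₀.trans (by simp))
    exact ⟨M ≫ ψ, by rw [Functor.map_comp, hM, hb₀']⟩

end main

end Groth.Agent.GerbBG.StackTarget
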