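import Groth.Agent.GerbBG.Main
import Groth.Agent.GerbBG.StackTarget
import Groth.Agent.AlgStLib.Stacks
import Groth.Agent.S13571

/-!
# The classifying stack of the stabilizer maps monomorphically to the stack
-/

set_option autoImplicit false
set_option backward.isDefEq.respectTransparency false
set_option backward.isDefEq.respectTransparency.types false
set_option linter.style.haveILetI false
set_option maxHeartbeats 1000000
universe u

noncomputable section

namespace Groth.Agent.GerbBG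

open CategoryTheory CategoryTheory.Limits MonoidalCategory CartesianMonoidalCategory MonObj GrpObj AlgebraicGeometry
open Opposite Groth.Agent.FibCatRep Groth.Agent.GerbLib Groth.Agent.GerbLib.Band Groth.Agent.Torsor

variable {S : Scheme.{u}} {𝒳 : AlgSt.Cat S} {x : FibCat.overCat (T₀ S) ⥤ᵇ 𝒳} {G : Over S} [GrpObj G]
  (r : Gerb.AutRep x (Gerb.ptsGrp (T₀ S) G)) (h𝒳 : Stk.IsStack (QuotSh.J Scheme.fppfPrecoverage S) 𝒳)

include r h𝒳 in
theorem fullyFaithful_twist [IsAffineHom G.hom] :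
    (twist r h𝒳).toFunctor.Full ∧ (twist r h𝒳).toFunctor.Faithful := by
  have hs : ∀ U : Over S, Nonempty (U ⟶ (BG G).p.obj (triv (G := G) (T₀ S))) := fun U => ⟨toT U⟩
  have hF : ∀ A : (BG G).obj, Nonempty (A ⟶ triv (G := G) (T₀ S)) →
      Function.Bijective (Gerb.autMap (twist r h𝒳) A) := by
    rintro A ⟨q⟩
    let σ : A.base ⟶ A.P := q.cart.lift (lift (1 : A.base ⟶ G) q.base) (𝟙 _)
      ((lift_snd _ _).trans (Category.id_comp _).symm)
    exact autMap_bijective_of_sec r h𝒳 σ (q.cart.lift_snd _ _ _)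
  exact ⟨StackTarget.full isGerbe_BG h𝒳 (twist r h𝒳) hs hF,
    StackTarget.faithful isGerbe_BG h𝒳 (twist r h𝒳) hs hF⟩

/-- the comparison at a point -/
def K₀ (A : (BG G).obj) (σ : A.base ⟶ A.P) : xo x A.base ⟶ (desc r h𝒳 A).ζ :=
  xm x σ ≫ (desc r h𝒳 A).τ

lemma map_K₀ (A : (BG G).obj) (σ : A.base ⟶ A.P) (hσ : σ ≫ A.π = 𝟙 _) :
    𝒳.p.map (K₀ r h𝒳 A σ) = eqToHom ((xw x A.base).trans (desc r h𝒳 A).hζ.symm) := by
  rw [K₀, Functor.map_comp, map_xm, (desc r h𝒳 A).hτ]
  simp [reassoc_of% hσ]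

theorem twist_quotMap :
    Nonempty (BasedFunctor.comp (AlgSt.quotMap Scheme.fppfPrecoverage G (AlgSt.trivAction G)) (twist r h𝒳) ≅
      BasedFunctor.comp (AlgSt.toOverCat (T₀ S)) x) := by
  let qm := AlgSt.quotMap Scheme.fppfPrecoverage G (AlgSt.trivAction G)
  let dom := AlgSt.ofSch (𝟙_ (Over S))
  have hpt : ∀ o : dom.obj, (AlgSt.toOverCat (T₀ S)).obj o = pt o.base := fun o => by
    show Over.mk o.sec.down = Over.mk (toT o.base)
    exact congrArg Over.mk (toUnit_unique _ _)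
  let sec : ∀ o : dom.obj, (qm.obj o).base ⟶ (qm.obj o).P := fun o => lift (1 : o.base ⟶ G) (𝟙 o.base)
  have hsec : ∀ o, sec o ≫ (qm.obj o).π = 𝟙 _ := fun o => lift_snd _ _
  haveI : ∀ o, IsIso (K₀ r h𝒳 (qm.obj o) (sec o)) := fun o => by
    haveI : IsIso (𝒳.p.map (K₀ r h𝒳 (qm.obj o) (sec o))) := by rw [map_K₀ r h𝒳 _ _ (hsec o)]; infer_instance
    exact isIso_of_map h𝒳.1 _
  refine ⟨(BasedNatIso.mkNatIso (F := BasedFunctor.comp (AlgSt.toOverCat (T₀ S)) x)
    (G := BasedFunctor.comp qm (twist r h𝒳))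
    (NatIso.ofComponents (fun o => eqToIso (congrArg x.obj (hpt o)) ≪≫ asIso (K₀ r h𝒳 (qm.obj o) (sec o)))
      (fun {o o'} f => ?_)) (fun o => ?_)).symm⟩
  · show x.map ((AlgSt.toOverCat (T₀ S)).map f) ≫ eqToHom (congrArg x.obj (hpt o')) ≫ K₀ r h𝒳 (qm.obj o') (sec o') =
      (eqToHom (congrArg x.obj (hpt o)) ≫ K₀ r h𝒳 (qm.obj o) (sec o)) ≫ mapHom r h𝒳 (qm.map f)
    have hs : sec o ≫ (qm.map f).top = f.hom ≫ sec o' := by
      show lift 1 (𝟙 o.base) ≫ (G ◁ f.hom) = f.hom ≫ lift 1 (𝟙 o'.base)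
      rw [lift_whiskerLeft, CartesianMonoidalCategory.comp_lift, MonObj.comp_one, Category.comp_id, Category.id_comp]
    rw [K₀, K₀, Category.assoc, Category.assoc, τ_mapHom, ← Category.assoc (xm x _) (xm x _), ← xm_comp, hs, xm_comp,
      Category.assoc]
    have hx : ∀ {a b a' b' : Over (T₀ S)} (ha : a = a') (hb : b = b') (m : a ⟶ b) (m' : a' ⟶ b'),
        m.left = eqToHom (congrArg Comma.left ha) ≫ m'.left ≫ eqToHom (congrArg Comma.left hb).symm →
        x.map m ≫ eqToHom (congrArg x.obj hb) = eqToHom (congrArg x.obj ha) ≫ x.map m' := by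
      intro a b a' b' ha hb m m' e
      subst ha
      subst hb
      have em : m = m' := Over.OverMorphism.ext (by simpa using e)
      simp [em]
    exact (reassoc_of% (hx (hpt o) (hpt o') _ (ptMap f.hom) (by simp; rfl))) _
  · refine IsHomLift.of_fac' 𝒳.p _ _ (x.w_obj _) ((desc r h𝒳 _).hζ) ?_
    show 𝒳.p.map (eqToHom (congrArg x.obj (hpt o)) ≫ K₀ r h𝒳 (qm.obj o) (sec o)) = _
    rw [Functor.map_comp, map_K₀ r h𝒳 _ _ (hsec o), eqToHom_map, eqToHom_trans]
    simp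

end Groth.Agent.GerbBG

end
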